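import Groth.Agent.H06EGA11.KernelFP
import Groth.Agent.H8Props.FlatLocus.Sheaf
import Groth.Agent.H29Fitt.Admissible

/-!
# Kernels of surjections of finitely presented modules onto flat ones (EGA IV 11.3.9.2)
-/

set_option autoImplicit false

universe u

open CategoryTheory Limits AlgebraicGeometry TopologicalSpace

namespace Groth.Agent.H06EGA11

variable {X Y : Scheme.{u}}

/-- A finitely presented module has finitely presented sections on all small affine opens. -/
theorem exists_nhd_forall_finitePresentation (M : X.Modules) (hM : CohB1.IsFP M) (x : X) :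
    ∃ O : X.Opens, x ∈ O ∧ ∀ V : X.Opens, IsAffineOpen V → V ≤ O →
      Module.FinitePresentation Γ(X, V) Γ(M, V) := by
  obtain ⟨W, hxW, P, hP⟩ := H29Fitt.exists_presentation_nhd M hM x
  refine ⟨W, hxW, fun V hV hVW => ?_⟩
  haveI : M.IsQuasicoherent := H29Fitt.isQCoh_of_isFP M hM
  haveI := Scheme.Modules.isQuasicoherent_restrictFunctor W.ι M
  have hpre : W.ι ''ᵁ (W.ι ⁻¹ᵁ V) = V := by
    rw [Scheme.Hom.image_preimage_eq_opensRange_inf, Scheme.Opens.opensRange_ι]
    exact inf_eq_right.2 hVW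
  have haff : IsAffineOpen (W.ι ⁻¹ᵁ V) := by
    rw [← Scheme.Hom.isAffineOpen_iff_of_isOpenImmersion W.ι, hpre]
    exact hV
  refine hpre ▸ ?_
  haveI : Module.FinitePresentation Γ(W.toScheme, W.ι ⁻¹ᵁ V) Γ(M.restrict W.ι, W.ι ⁻¹ᵁ V) :=
    @H29Fitt.finitePresentation_of_presentation _ _ ‹_› P hP _ haff
  exact H29Fitt.finitePresentation_of_semilinear (W.ι.appIso _).inv.hom
    (ConcreteCategory.bijective_of_isIso (W.ι.appIso _).inv)
    (M.restrictAppIso W.ι _).hom.hom (fun _ _ => rfl)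
    (ConcreteCategory.bijective_of_isIso (M.restrictAppIso W.ι _).hom)

/-- Sections over affines of a relatively flat module are flat. -/
theorem flat_sections (f : X ⟶ Y) (F : X.Modules) (hF : Coh.IsQCoh F)
    {V : Y.Opens} (hV : IsAffineOpen V) {U : X.Opens}
    (hU : IsAffineOpen U) (hUV : U ≤ f ⁻¹ᵁ V) (h : ∀ x ∈ U, FlatMod.IsFlatOverAt f F x) :
    letI := Module.compHom Γ(F, U) (f.appLE V U hUV).hom
    Module.Flat Γ(Y, V) Γ(F, U) := by
  letI := Module.compHom Γ(F, U) (f.appLE V U hUV).hom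
  letI := (f.appLE V U hUV).hom.toAlgebra
  haveI : IsScalarTower Γ(Y, V) Γ(X, U) Γ(F, U) := .of_algebraMap_smul fun _ _ => rfl
  haveI := hU.isOpenImmersion_fromSpec
  refine Module.flat_of_isLocalized_maximal (S := Γ(X, U)) Γ(F, U)
    (fun q _ => LocalizedModule q.primeCompl Γ(F, U))
    (fun q _ => LocalizedModule.mkLinearMap q.primeCompl Γ(F, U)) fun q hq => ?_
  let p : PrimeSpectrum Γ(X, U) := ⟨q, hq.isPrime⟩
  have hmem : hU.fromSpec p ∈ U := hU.range_fromSpec.subset ⟨p, rfl⟩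
  have e : hU.primeIdealOf ⟨hU.fromSpec p, hmem⟩ = p :=
    hU.fromSpec.isOpenEmbedding.injective (hU.fromSpec_primeIdealOf _)
  have := (H8Props.FlatLocus.isFlatOverAt_iff_localizedModule f F hF hV hU hUV
    ⟨hU.fromSpec p, hmem⟩).mp (h _ hmem)
  rw [e] at this
  exact this

theorem isFP_kernel_of_isFlatOver (f : X ⟶ Y) [LocallyOfFinitePresentation f] {G H : X.Modules}
    (hG : CohB1.IsFP G) (hH : CohB1.IsFP H) (hflat : FlatMod.IsFlatOver f H) (p : G ⟶ H) [Epi p] :
    CohB1.IsFP (kernel p) := by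
  haveI : G.IsQuasicoherent := H29Fitt.isQCoh_of_isFP G hG
  haveI : H.IsQuasicoherent := H29Fitt.isQCoh_of_isFP H hH
  haveI : (kernel p).IsQuasicoherent := H10Coh.isQuasicoherent_kernel p
  have key : ∀ x : X, ∃ V : X.Opens, x ∈ V ∧ IsAffineOpen V ∧
      Module.FinitePresentation Γ(X, V) Γ(kernel p, V) := by
    intro x
    obtain ⟨O₁, hx₁, h₁⟩ := exists_nhd_forall_finitePresentation G hG x
    obtain ⟨O₂, hx₂, h₂⟩ := exists_nhd_forall_finitePresentation H hH x
    obtain ⟨_, ⟨W, hW : IsAffineOpen W, rfl⟩, hxW, -⟩ :=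
      Y.isBasis_affineOpens.exists_subset_of_mem_open (Set.mem_univ (f x)) isOpen_univ
    obtain ⟨_, ⟨V, hV : IsAffineOpen V, rfl⟩, hxV, hle⟩ :=
      X.isBasis_affineOpens.exists_subset_of_mem_open
        (show x ∈ O₁ ⊓ O₂ ⊓ f ⁻¹ᵁ W from ⟨⟨hx₁, hx₂⟩, hxW⟩) (O₁ ⊓ O₂ ⊓ f ⁻¹ᵁ W).isOpen
    haveI := h₁ V hV fun y hy => (hle hy).1.1
    haveI := h₂ V hV fun y hy => (hle hy).1.2
    have hVW : V ≤ f ⁻¹ᵁ W := fun y hy => (hle hy).2
    letI := Module.compHom Γ(H, V) (f.appLE W V hVW).hom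
    letI := (f.appLE W V hVW).hom.toAlgebra
    haveI : IsScalarTower Γ(Y, W) Γ(X, V) Γ(H, V) := .of_algebraMap_smul fun _ _ => rfl
    haveI : Algebra.FinitePresentation Γ(Y, W) Γ(X, V) :=
      HasRingHomProperty.appLE @LocallyOfFinitePresentation f ‹_› ⟨W, hW⟩ ⟨V, hV⟩ hVW
    haveI : Module.Flat Γ(Y, W) Γ(H, V) :=
      flat_sections f H ‹H.IsQuasicoherent› hW hV hVW fun y _ => hflat y
    have hsur : Function.Surjective (H29Fitt.appLin p V) :=
      @H10Coh.surjective_app_of_epi _ _ _ p ‹_› ‹_› ‹_› _ hV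
    haveI := finitePresentation_ker (A := Γ(Y, W)) (H29Fitt.appLin p V) hsur
    let i := H29Fitt.appLin (kernel.ι p) V
    have hi : Function.Injective i := H10Coh.injective_app_of_mono' (kernel.ι p) V
    have hrange : LinearMap.range i = LinearMap.ker (H29Fitt.appLin p V) := by
      refine le_antisymm ?_ fun z hz => LinearMap.mem_range.2 ?_
      · rintro _ ⟨y, rfl⟩
        exact congr($(kernel.condition p).app V y)
      · exact H10Coh.exists_app_eq_of_exact
          (S := ShortComplex.mk (kernel.ι p) p (kernel.condition p))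
          { exact := ShortComplex.exact_of_f_is_kernel _ (kernelIsKernel p), epi_g := ‹_› } V z hz
    exact ⟨V, hxV, hV, Module.FinitePresentation.of_equiv (R := Γ(X, V))
      (M := LinearMap.ker (H29Fitt.appLin p V)) (N := Γ(kernel p, V))
      ((LinearEquiv.ofInjective i hi).trans (LinearEquiv.ofEq _ _ hrange)).symm⟩
  choose V hxV hV hfp using key
  exact H29Omega.isFP_of_affineCover _ V (eq_top_iff.2 fun x _ => Opens.mem_iSup.2 ⟨x, hxV x⟩) hV hfp

end Groth.Agent.H06EGA11
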