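import Groth.Agent.H06EGA11.Sheaf
import Groth.Agent.H06Mod.StalkExact

/-!
# Openness of the locus where a map is injective with flat cokernel (EGA IV 11.3.7)
-/

set_option autoImplicit false
set_option linter.style.haveILetI false

universe u

open CategoryTheory Limits AlgebraicGeometry TopologicalSpace

namespace Groth.Agent.H06EGA11

variable {X Y : Scheme.{u}}

/-- Sections of the cokernel over an affine open. -/
theorem exact_sections_cokernel {F F' : X.Modules} [F.IsQuasicoherent] [F'.IsQuasicoherent]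
    (v : F' ⟶ F) {U : X.Opens} (hU : IsAffineOpen U) :
    Function.Surjective (H29Fitt.appLin (cokernel.π v) U) ∧
      LinearMap.range (H29Fitt.appLin v U) = LinearMap.ker (H29Fitt.appLin (cokernel.π v) U) := by
  haveI := H10Coh.isQuasicoherent_cokernel v
  refine ⟨H10Coh.surjective_app_of_epi (cokernel.π v) hU, le_antisymm ?_ fun z hz => ?_⟩
  · rintro _ ⟨y, rfl⟩
    exact congr($(cokernel.condition v).app U y)
  · haveI := H10Coh.isQuasicoherent_kernel (cokernel.π v)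
    obtain ⟨y, hy⟩ := H10Coh.exists_app_eq_of_exact
      (S := ShortComplex.mk (kernel.ι (cokernel.π v)) (cokernel.π v) (kernel.condition _))
      { exact := ShortComplex.exact_of_f_is_kernel _ (kernelIsKernel _) } U z hz
    let l : F' ⟶ kernel (cokernel.π v) := kernel.lift _ v (cokernel.condition v)
    haveI : Epi l := inferInstanceAs (Epi (Abelian.factorThruImage v))
    obtain ⟨w, rfl⟩ := H10Coh.surjective_app_of_epi l hU y
    exact ⟨w, (congr($(kernel.lift_ι (cokernel.π v) v (cokernel.condition v)).app U w)).symm.trans hy⟩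

theorem isFP_cokernel {F F' : X.Modules} (hF : CohB1.IsFP F) (hF' : CohB1.IsFP F') (v : F' ⟶ F) :
    CohB1.IsFP (cokernel v) := by
  haveI : F.IsQuasicoherent := H29Fitt.isQCoh_of_isFP F hF
  haveI : F'.IsQuasicoherent := H29Fitt.isQCoh_of_isFP F' hF'
  haveI := H10Coh.isQuasicoherent_cokernel v
  have key : ∀ x : X, ∃ V : X.Opens, x ∈ V ∧ IsAffineOpen V ∧
      Module.FinitePresentation Γ(X, V) Γ(cokernel v, V) := by
    intro x
    obtain ⟨O₁, hx₁, h₁⟩ := exists_nhd_forall_finitePresentation F hF x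
    obtain ⟨O₂, hx₂, h₂⟩ := exists_nhd_forall_finitePresentation F' hF' x
    obtain ⟨_, ⟨V, hV : IsAffineOpen V, rfl⟩, hxV, hle⟩ :=
      X.isBasis_affineOpens.exists_subset_of_mem_open (show x ∈ O₁ ⊓ O₂ from ⟨hx₁, hx₂⟩)
        (O₁ ⊓ O₂).isOpen
    haveI := h₁ V hV fun y hy => (hle hy).1
    haveI := h₂ V hV fun y hy => (hle hy).2
    obtain ⟨hsur, hex⟩ := exact_sections_cokernel v hV
    exact ⟨V, hxV, hV, Module.finitePresentation_of_surjective (H29Fitt.appLin (cokernel.π v) V) hsur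
      (hex ▸ Module.Finite.iff_fg.mp inferInstance)⟩
  choose V hxV hV hfp using key
  exact H29Omega.isFP_of_affineCover _ V (eq_top_iff.2 fun x _ => Opens.mem_iSup.2 ⟨x, hxV x⟩) hV hfp

/-- EGA IV 11.3.7. -/
theorem isOpen_setOf_injective_and_isFlatOverAt_cokernel (f : X ⟶ Y)
    [LocallyOfFinitePresentation f] {F F' : X.Modules} (hF : CohB1.IsFP F) (hF' : CohB1.IsFP F')
    (v : F' ⟶ F) :
    IsOpen {x : X | Function.Injective ((TopCat.Presheaf.stalkFunctor Ab.{u} x).map v.mapPresheaf) ∧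
      FlatMod.IsFlatOverAt f (cokernel v) x} := by
  classical
  haveI : F.IsQuasicoherent := H29Fitt.isQCoh_of_isFP F hF
  haveI : F'.IsQuasicoherent := H29Fitt.isQCoh_of_isFP F' hF'
  haveI := H10Coh.isQuasicoherent_cokernel v
  have hC := isFP_cokernel hF hF' v
  let L : X.Opens := ⟨_, H8Props.FlatLocus.isOpen_setOf_isFlatOverAt f (cokernel v) hC⟩
  rw [isOpen_iff_forall_mem_open]
  rintro x ⟨hinj, hflat⟩
  obtain ⟨O₁, hx₁, h₁⟩ := exists_nhd_forall_finitePresentation F hF x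
  obtain ⟨O₂, hx₂, h₂⟩ := exists_nhd_forall_finitePresentation F' hF' x
  obtain ⟨O₃, hx₃, h₃⟩ := exists_nhd_forall_finitePresentation (cokernel v) hC x
  obtain ⟨_, ⟨W, hW : IsAffineOpen W, rfl⟩, hxW, -⟩ :=
    Y.isBasis_affineOpens.exists_subset_of_mem_open (Set.mem_univ (f x)) isOpen_univ
  obtain ⟨_, ⟨U, hU : IsAffineOpen U, rfl⟩, hxU, hle⟩ :=
    X.isBasis_affineOpens.exists_subset_of_mem_open
      (show x ∈ L ⊓ O₁ ⊓ O₂ ⊓ O₃ ⊓ f ⁻¹ᵁ W from ⟨⟨⟨⟨hflat, hx₁⟩, hx₂⟩, hx₃⟩, hxW⟩)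
      (L ⊓ O₁ ⊓ O₂ ⊓ O₃ ⊓ f ⁻¹ᵁ W).isOpen
  have hUL : ∀ y ∈ U, y ∈ L := fun y hy => (hle hy).1.1.1.1
  haveI := h₁ U hU fun y hy => (hle hy).1.1.1.2
  haveI := h₂ U hU fun y hy => (hle hy).1.1.2
  haveI := h₃ U hU fun y hy => (hle hy).1.2
  have hUW : U ≤ f ⁻¹ᵁ W := fun y hy => (hle hy).2
  letI := Module.compHom Γ(cokernel v, U) (f.appLE W U hUW).hom
  letI := (f.appLE W U hUW).hom.toAlgebra
  haveI : IsScalarTower Γ(Y, W) Γ(X, U) Γ(cokernel v, U) := .of_algebraMap_smul fun _ _ => rfl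
  haveI : Algebra.FinitePresentation Γ(Y, W) Γ(X, U) :=
    HasRingHomProperty.appLE @LocallyOfFinitePresentation f ‹_› ⟨W, hW⟩ ⟨U, hU⟩ hUW
  haveI : Module.Flat Γ(Y, W) Γ(cokernel v, U) :=
    flat_sections f (cokernel v) ‹_› hW hU hUW hUL
  obtain ⟨hsur, hex⟩ := exact_sections_cokernel v hU
  haveI := finitePresentation_ker (A := Γ(Y, W)) (H29Fitt.appLin (cokernel.π v) U) hsur
  let φ := H29Fitt.appLin v U
  haveI : Module.FinitePresentation Γ(X, U) (LinearMap.range φ) := hex ▸ ‹_›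
  have hfg : (LinearMap.ker φ).FG := by
    rw [← LinearMap.ker_rangeRestrict]
    exact Module.FinitePresentation.fg_ker _ φ.surjective_rangeRestrict
  obtain ⟨K, hK⟩ := hfg
  have hgerm : ∀ (y : X) (hy : y ∈ U) (m : Γ(F', U)),
      H06Mod.stalkLin v y (F'.presheaf.germ U y hy m) = F.presheaf.germ U y hy (φ m) :=
    fun y hy m => H06Mod.stalkLin_germ v y U hy m
  have hkill : ∀ k ∈ K, ∃ t : Γ(X, U), t ∉ (hU.primeIdealOf ⟨x, hxU⟩).asIdeal ∧ t • k = 0 := by
    intro k hk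
    have h0 : φ k = 0 := LinearMap.mem_ker.1 (hK ▸ Submodule.subset_span hk)
    refine H29Blow.exists_smul_eq_zero_of_germ F' ‹F'.IsQuasicoherent› hU ⟨x, hxU⟩ k (hinj ?_)
    exact (hgerm x hxU k).trans ((congrArg _ h0).trans ((map_zero _).trans (map_zero _).symm))
  choose t ht htk using hkill
  let s := ∏ k ∈ K.attach, t k.1 k.2
  have hs : s ∈ (hU.primeIdealOf ⟨x, hxU⟩).asIdeal.primeCompl := prod_mem fun k _ => ht _ _
  have hsK : ∀ m ∈ LinearMap.ker φ, s • m = 0 := by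
    intro m hm
    rw [← hK] at hm
    induction hm using Submodule.span_induction with
    | mem k hk =>
      obtain ⟨c, hc⟩ : t k hk ∣ s := Finset.dvd_prod_of_mem _ (Finset.mem_attach K ⟨k, hk⟩)
      rw [hc, mul_comm, mul_smul, htk k hk, smul_zero]
    | zero => rw [smul_zero]
    | add a b _ _ ha hb => rw [smul_add, ha, hb, add_zero]
    | smul c a _ ha => rw [smul_comm, ha, smul_zero]
  refine ⟨X.basicOpen s, fun y hy => ?_, (X.basicOpen s).isOpen, ?_⟩
  · have hyU : y ∈ U := X.basicOpen_le s hy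
    refine ⟨?_, hUL y hyU⟩
    show Function.Injective (H06Mod.stalkLin v y)
    rw [injective_iff_map_eq_zero]
    intro z hz
    letI := TopCat.Presheaf.algebra_section_stalk X.presheaf (⟨y, hyU⟩ : U)
    letI := Module.compHom (F'.presheaf.stalk y) (algebraMap Γ(X, U) (X.presheaf.stalk y))
    haveI := H29Fitt.isLocalizedModule_germLin F' ‹F'.IsQuasicoherent› hU ⟨y, hyU⟩
    obtain ⟨⟨m, c⟩, hmc⟩ := IsLocalizedModule.surj (hU.primeIdealOf ⟨y, hyU⟩).asIdeal.primeCompl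
      (H29Fitt.germLin F' ⟨y, hyU⟩) z
    have hcz : (algebraMap Γ(X, U) (X.presheaf.stalk y) c.1) • z = F'.presheaf.germ U y hyU m := hmc
    have h0 : F.presheaf.germ U y hyU (φ m) = 0 := by
      rw [← hgerm, ← hcz, map_smul, hz, smul_zero]
    obtain ⟨d, hd, hdm⟩ := H29Blow.exists_smul_eq_zero_of_germ F ‹_› hU ⟨y, hyU⟩ (φ m) h0
    have hm : s • d • m = 0 := hsK _ (by rw [LinearMap.mem_ker, map_smul, hdm])
    have hunit : IsUnit (algebraMap Γ(X, U) (X.presheaf.stalk y) (s * d * c.1)) := by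
      haveI := hU.isLocalization_stalk ⟨y, hyU⟩
      refine IsLocalization.map_units (X.presheaf.stalk y)
        (⟨s * d * c.1, Submonoid.mul_mem _ (Submonoid.mul_mem _ ?_ hd) c.2⟩ :
          (hU.primeIdealOf ⟨y, hyU⟩).asIdeal.primeCompl)
      exact fun hmem => (H29Blow.mem_primeIdealOf_iff hU ⟨y, hyU⟩ s).mp hmem
        ((X.mem_basicOpen s y hyU).1 hy)
    refine hunit.smul_left_cancel.1 ?_
    rw [smul_zero, map_mul, mul_smul, hcz, ← map_zero (F'.presheaf.germ U y hyU).hom,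
      ← hm, ← mul_smul]
    exact ((H29Fitt.germLin F' ⟨y, hyU⟩).map_smul (s * d) m).symm
  · refine (X.mem_basicOpen s x hxU).2 ?_
    by_contra hns
    exact hs ((H29Blow.mem_primeIdealOf_iff hU ⟨x, hxU⟩ s).mpr hns)

end Groth.Agent.H06EGA11
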