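import Groth.Agent.H06EGA11.Global
import Groth.Agent.H02CA.ColimDescent

/-!
# Flatness over a colimit of rings (EGA IV 11.2.6.1)
-/

set_option autoImplicit false
set_option linter.style.haveILetI false

universe u

open TensorProduct LinearMap

namespace Groth.Agent.H06EGA11

attribute [local instance] Algebra.TensorProduct.rightAlgebra

theorem exists_index_flat_of_noetherian {R₀ : Type u} [CommRing R₀] [IsNoetherianRing R₀]
    {B₀ : Type u} [CommRing B₀] [Algebra R₀ B₀] [Algebra.FiniteType R₀ B₀]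
    {M₀ : Type u} [AddCommGroup M₀] [Module R₀ M₀] [Module B₀ M₀] [IsScalarTower R₀ B₀ M₀]
    [Module.Finite B₀ M₀] {ι : Type u} {G : ι → Type u} [∀ i, CommRing (G i)]
    [∀ i, Algebra R₀ (G i)] {A : Type u} [CommRing A] [Algebra R₀ A] {g : ∀ i, G i →ₐ[R₀] A}
    (hG : H02CA.ColimTensor.Approx g G A (fun i ↦ g i) (fun φ ↦ φ.1))
    [Module.Flat A (A ⊗[R₀] M₀)] : ∃ i, Module.Flat (G i) (G i ⊗[R₀] M₀) := by
  obtain ⟨i₀⟩ := hG.ne
  haveI : Module.Flat A (BC R₀ B₀ M₀ A) :=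
    Module.Flat.of_linearEquiv (isBaseChange_toBC (R₀ := R₀) (B₀ := B₀) (M₀ := M₀) (R' := A)).equiv.symm
  obtain ⟨R, hR, H⟩ := exists_stage_flat (R₀ := R₀) (B₀ := B₀) (M₀ := M₀) (A := A)
  haveI := H R le_rfl hR
  haveI : Module.Flat R (R ⊗[R₀] M₀) :=
    Module.Flat.of_linearEquiv (isBaseChange_toBC (R₀ := R₀) (B₀ := B₀) (M₀ := M₀) (R' := R)).equiv
  haveI : Algebra.FiniteType R₀ R := R.fg_iff_finiteType.1 hR
  haveI : Algebra.FinitePresentation R₀ R := Algebra.FinitePresentation.of_finiteType.1 inferInstance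
  obtain ⟨j, -, t, -⟩ := H02CA.ColimDescent.lift_hom (v := g) (lp := fun φ => φ.1) hG R.val i₀
  letI : Algebra R (G j) := t.toRingHom.toAlgebra
  haveI : IsScalarTower R₀ R (G j) := IsScalarTower.of_algebraMap_eq fun x => (t.commutes x).symm
  exact ⟨j, Module.Flat.of_linearEquiv
    (AlgebraTensorModule.cancelBaseChange R₀ R (G j) (G j) M₀).symm⟩

/-- A module base changed in two steps. -/
theorem flat_tensor_iff {R₀ A₀ A M₀ M : Type u} [CommRing R₀] [CommRing A₀]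
    [CommRing A] [Algebra R₀ A₀] [Algebra A₀ A] [Algebra R₀ A] [IsScalarTower R₀ A₀ A]
    [AddCommGroup M₀] [Module R₀ M₀] [AddCommGroup M] [Module A₀ M]
    (e : A₀ ⊗[R₀] M₀ ≃ₗ[A₀] M) :
    Module.Flat A (A ⊗[R₀] M₀) ↔ Module.Flat A (A ⊗[A₀] M) :=
  Module.Flat.equiv_iff ((AlgebraTensorModule.cancelBaseChange R₀ A₀ A A M₀).symm.trans
    (AlgebraTensorModule.congr (LinearEquiv.refl A A) e))

/-- A module with a Noetherian model. -/
theorem exists_index_flat_of_model {R₀ A₀ : Type u} [CommRing R₀] [CommRing A₀] [Algebra R₀ A₀]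
    [IsNoetherianRing R₀] {P₀ : Type u} [CommRing P₀] [Algebra R₀ P₀] [Algebra.FiniteType R₀ P₀]
    {N : Type u} [AddCommGroup N] [Module R₀ N] [Module P₀ N] [IsScalarTower R₀ P₀ N]
    [Module.Finite P₀ N] {M₀ : Type u} [AddCommGroup M₀] [Module A₀ M₀]
    (e : BC R₀ P₀ N A₀ ≃ₗ[A₀] M₀)
    {ι : Type u} [Preorder ι] [IsDirected ι (· ≤ ·)] [Nonempty ι] {G : ι → Type u}
    [∀ i, CommRing (G i)] [∀ i, Algebra A₀ (G i)] [∀ i, Algebra R₀ (G i)]
    [∀ i, IsScalarTower R₀ A₀ (G i)] (f : ∀ i j, i ≤ j → G i →ₐ[A₀] G j)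
    {A : Type u} [CommRing A] [Algebra A₀ A] [Algebra R₀ A] [IsScalarTower R₀ A₀ A]
    (g : ∀ i, G i →ₐ[A₀] A) (hg : ∀ i j (h : i ≤ j), (g j).comp (f i j h) = g i)
    (hsurj : ∀ a : A, ∃ i, ∃ x : G i, g i x = a)
    (hker : ∀ i (x : G i), g i x = 0 → ∃ j, ∃ h : i ≤ j, f i j h x = 0)
    [Module.Flat A (A ⊗[A₀] M₀)] : ∃ i, Module.Flat (G i) (G i ⊗[A₀] M₀) := by
  let e' : A₀ ⊗[R₀] N ≃ₗ[A₀] M₀ :=
    (isBaseChange_toBC (R₀ := R₀) (B₀ := P₀) (M₀ := N) (R' := A₀)).equiv.trans e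
  haveI : Module.Flat A (A ⊗[R₀] N) := (flat_tensor_iff e').2 inferInstance
  have happ := H02CA.ColimTensor.approx_of_directed (A₀ := R₀)
    (g := fun i => (g i).restrictScalars R₀) (fun i j h => (f i j h).restrictScalars R₀)
    (fun i j h => AlgHom.ext fun x => AlgHom.congr_fun (hg i j h) x) hsurj hker
  obtain ⟨i, hi⟩ := exists_index_flat_of_noetherian (B₀ := P₀) (M₀ := N) happ
  exact ⟨i, (flat_tensor_iff e').1 hi⟩

/-- EGA IV 11.2.6.1 (i). -/
theorem exists_index_flat {A₀ : Type u} [CommRing A₀] {B₀ : Type u} [CommRing B₀] [Algebra A₀ B₀]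
    [Algebra.FinitePresentation A₀ B₀] (M₀ : Type u) [AddCommGroup M₀] [Module B₀ M₀] [Module A₀ M₀]
    [IsScalarTower A₀ B₀ M₀] [Module.FinitePresentation B₀ M₀]
    {ι : Type u} [Preorder ι] [IsDirected ι (· ≤ ·)] [Nonempty ι] (G : ι → Type u)
    [∀ i, CommRing (G i)] [∀ i, Algebra A₀ (G i)] (f : ∀ i j, i ≤ j → G i →ₐ[A₀] G j)
    {A : Type u} [CommRing A] [Algebra A₀ A] (g : ∀ i, G i →ₐ[A₀] A)
    (hg : ∀ i j (h : i ≤ j), (g j).comp (f i j h) = g i)
    (hsurj : ∀ a : A, ∃ i, ∃ x : G i, g i x = a)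
    (hker : ∀ i (x : G i), g i x = 0 → ∃ j, ∃ h : i ≤ j, f i j h x = 0)
    [Module.Flat A (A ⊗[A₀] M₀)] : ∃ i, Module.Flat (G i) (G i ⊗[A₀] M₀) := by
  obtain ⟨n, π, hπ, hker'⟩ := Algebra.FinitePresentation.out (R := A₀) (A := B₀)
  let P := MvPolynomial (Fin n) A₀
  letI : Algebra P B₀ := π.toRingHom.toAlgebra
  haveI : IsScalarTower A₀ P B₀ := IsScalarTower.of_algebraMap_eq fun x => (π.commutes x).symm
  haveI : Module.FinitePresentation P B₀ :=
    Module.finitePresentation_of_surjective (Algebra.linearMap P B₀) hπ hker'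
  letI : Module P M₀ := Module.compHom M₀ π.toRingHom
  haveI : IsScalarTower P B₀ M₀ := IsScalarTower.of_algebraMap_smul fun _ _ => rfl
  haveI : IsScalarTower A₀ P M₀ := IsScalarTower.of_algebraMap_smul fun a x => by
    show π (algebraMap A₀ _ a) • x = a • x
    rw [π.commutes, algebraMap_smul]
  haveI : Module.FinitePresentation P M₀ := Module.FinitePresentation.trans P M₀ B₀
  obtain ⟨R₀, hR₀, N, _, _, _, _, _, σ, e, -, -⟩ := exists_model (A := A₀) (n := n) M₀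
  haveI : Algebra.FiniteType ℤ R₀ := R₀.fg_iff_finiteType.1 hR₀
  haveI : IsNoetherianRing R₀ := Algebra.FiniteType.isNoetherianRing ℤ R₀
  exact exists_index_flat_of_model e f g hg hsurj hker

end Groth.Agent.H06EGA11
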