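import Groth.Agent.H1CAlg.FlatDevissage
import Groth.Agent.H7Flat.LocalCriterion
import Mathlib.RingTheory.Localization.BaseChange
import Mathlib.RingTheory.Localization.AtPrime.Basic
import Mathlib.RingTheory.Localization.Submodule
import Mathlib.RingTheory.Localization.Finiteness

/-!
# Flatness of localised modules

Elementwise form of flatness over `R` of a localisation of an `S`-module, and the local criterion
of flatness at a prime.
-/

set_option autoImplicit false

universe u

open TensorProduct LinearMap

namespace Groth.Agent.H06EGA11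

variable {R S M : Type u} [CommRing R] [CommRing S] [Algebra R S] [AddCommGroup M] [Module R M]
  [Module S M] [IsScalarTower R S M]

variable {P Q : Type u} [AddCommGroup P] [Module R P] [AddCommGroup Q] [Module R Q]

/-- The localisation map of `M ⊗ P`. -/
noncomputable abbrev locT (T : Submonoid S) (M : Type u) [AddCommGroup M] [Module R M] [Module S M]
    [IsScalarTower R S M] (P : Type u) [AddCommGroup P] [Module R P] :
    M ⊗[R] P →ₗ[S] LocalizedModule T M ⊗[R] P :=
  AlgebraTensorModule.rTensor R P (LocalizedModule.mkLinearMap T M)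

theorem locT_lTensor (T : Submonoid S) (f : P →ₗ[R] Q) (x : M ⊗[R] P) :
    f.lTensor (LocalizedModule T M) (locT T M P x) = locT T M Q (f.lTensor M x) := by
  induction x with
  | zero => simp
  | tmul m p => simp
  | add a b ha hb => simp only [map_add, ha, hb]

theorem lTensor_smul' (f : P →ₗ[R] Q) (s : S) (x : M ⊗[R] P) :
    f.lTensor M (s • x) = s • f.lTensor M x :=
  (AlgebraTensorModule.lTensor S M f).map_smul s x

/-- Kernels become zero up to `T` when the localisation is injective. -/
theorem exists_smul_eq_zero_of_injective (T : Submonoid S) (f : P →ₗ[R] Q)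
    (hf : Function.Injective (f.lTensor (LocalizedModule T M))) (x : M ⊗[R] P)
    (hx : f.lTensor M x = 0) : ∃ t ∈ T, t • x = 0 := by
  have h : locT T M P x = 0 := hf (by rw [locT_lTensor, hx, map_zero, map_zero])
  obtain ⟨t, ht⟩ := (IsLocalizedModule.eq_zero_iff T _).1 h
  exact ⟨t, t.2, ht⟩

/-- Localising kernels. -/
theorem injective_lTensor_localizedModule (T : Submonoid S) (f : P →ₗ[R] Q)
    (h : ∀ x : M ⊗[R] P, f.lTensor M x = 0 → ∃ t ∈ T, t • x = 0) :
    Function.Injective (f.lTensor (LocalizedModule T M)) := by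
  refine (injective_iff_map_eq_zero _).2 fun z hz => ?_
  obtain ⟨⟨x, s⟩, hs⟩ := IsLocalizedModule.surj T (locT T M P) z
  have h1 : locT T M Q (f.lTensor M x) = 0 := by
    rw [← locT_lTensor, ← hs, Submonoid.smul_def, lTensor_smul', hz, smul_zero]
  obtain ⟨t, ht⟩ := (IsLocalizedModule.eq_zero_iff T _).1 h1
  rw [Submonoid.smul_def, ← lTensor_smul'] at ht
  obtain ⟨t', ht', hx⟩ := h _ ht
  rw [smul_smul] at hx
  have h2 : locT T M P x = 0 :=
    (IsLocalizedModule.eq_zero_iff T _).2 ⟨⟨t' * t.1, mul_mem ht' t.2⟩, hx⟩
  rw [h2] at hs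
  exact IsLocalizedModule.smul_injective (locT T M P) s (hs.trans (smul_zero s).symm)

/-- An element of a tensor product with a flat localisation. -/
theorem exists_smul_eq_zero_of_flat (T : Submonoid S) [Module.Flat R (LocalizedModule T M)]
    (f : P →ₗ[R] Q) (hf : Function.Injective f) (x : M ⊗[R] P) (hx : f.lTensor M x = 0) :
    ∃ t ∈ T, t • x = 0 :=
  exists_smul_eq_zero_of_injective T f (Module.Flat.lTensor_preserves_injective_linearMap f hf) x hx

/-- Flatness of a localisation, elementwise. -/
theorem flat_localizedModule (T : Submonoid S)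
    (h : ∀ (J : Ideal R) (x : M ⊗[R] J), J.subtype.lTensor M x = 0 → ∃ t ∈ T, t • x = 0) :
    Module.Flat R (LocalizedModule T M) :=
  Module.Flat.iff_lTensor_injective'.2 fun J => injective_lTensor_localizedModule T _ (h J)

/-- Flatness modulo `I` from injectivity on modules killed by `I`. -/
theorem flat_quotient_of_injective {N : Type u} [AddCommGroup N] [Module R N] (I : Ideal R)
    (h : ∀ (Q : Type u) [AddCommGroup Q] [Module R Q], (∀ a ∈ I, ∀ x : Q, a • x = 0) →
      ∀ P : Submodule R Q, Function.Injective (P.subtype.lTensor N)) :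
    Module.Flat (R ⧸ I) ((R ⧸ I) ⊗[R] N) := by
  refine Module.Flat.iff_rTensor_injective'.2 fun J => ?_
  refine (H1CAlg.FlatDev.rTensor_baseChange_injective_iff J.subtype).2 ?_
  rw [← LinearMap.lTensor_inj_iff_rTensor_inj]
  exact h (R ⧸ I) (fun a ha x => by
    rw [Algebra.smul_def, Ideal.Quotient.algebraMap_eq, Ideal.Quotient.eq_zero_iff_mem.2 ha,
      zero_mul]) (J.restrictScalars R)

/-- Injectivity on modules killed by a power of `I`. -/
theorem injective_of_killed_pow {N : Type u} [AddCommGroup N] [Module R N] (I : Ideal R)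
    (h : Function.Injective (I.subtype.lTensor N)) [Module.Flat (R ⧸ I) ((R ⧸ I) ⊗[R] N)] :
    ∀ (n : ℕ) (Q : Type u) [AddCommGroup Q] [Module R Q], (∀ a ∈ I ^ n, ∀ x : Q, a • x = 0) →
      ∀ P : Submodule R Q, Function.Injective (P.subtype.lTensor N) := by
  intro n
  induction n with
  | zero =>
    intro Q _ _ hQ P
    haveI : Subsingleton P := ⟨fun a b => Subtype.ext (by
      rw [← one_smul R (a : Q), ← one_smul R (b : Q), hQ 1 (by simp), hQ 1 (by simp)])⟩
    haveI : Subsingleton (N ⊗[R] P) := ⟨fun a b => by
      have : ∀ z : N ⊗[R] P, z = 0 := fun z => by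
        induction z with
        | zero => rfl
        | tmul m p => rw [Subsingleton.elim p 0, tmul_zero]
        | add x y hx hy => rw [hx, hy, add_zero]
      rw [this a, this b]⟩
    exact Function.injective_of_subsingleton _
  | succ n ih =>
    intro Q _ _ hQ P
    refine H1CAlg.FlatDev.lTensor_injective_step I h (fun P' => ih _ (fun a ha x => ?_) P') P
    refine Subtype.ext ?_
    obtain ⟨x, hx⟩ := x
    show a • x = 0
    refine Submodule.smul_induction_on hx (fun r hr y _ => ?_) fun y z hy hz => by
      rw [smul_add, hy, hz, add_zero]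
    rw [smul_smul]
    exact hQ _ (by rw [pow_succ]; exact Ideal.mul_mem_mul ha hr) y

/-- The local criterion of flatness at a prime. -/
theorem flat_localizedModule_atPrime [IsNoetherianRing R] [IsNoetherianRing S] [Module.Finite S M]
    (q : Ideal S) [q.IsPrime] (I : Ideal R) (hI : I.map (algebraMap R S) ≤ q)
    (h₁ : ∀ x : M ⊗[R] I, I.subtype.lTensor M x = 0 → ∃ t ∈ q.primeCompl, t • x = 0)
    (h₂ : ∀ (Q : Type u) [AddCommGroup Q] [Module R Q], (∀ a ∈ I, ∀ x : Q, a • x = 0) →
      ∀ (P : Submodule R Q) (x : M ⊗[R] P), P.subtype.lTensor M x = 0 →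
        ∃ t ∈ q.primeCompl, t • x = 0) :
    Module.Flat R (LocalizedModule q.primeCompl M) := by
  haveI : Module.Flat (R ⧸ I) ((R ⧸ I) ⊗[R] LocalizedModule q.primeCompl M) :=
    flat_quotient_of_injective I fun Q _ _ hQ P =>
      injective_lTensor_localizedModule _ _ (h₂ Q hQ P)
  have hpow := injective_of_killed_pow I (injective_lTensor_localizedModule _ _ h₁)
  rw [Module.Flat.iff_lTensor_injective']
  intro J
  haveI : IsNoetherianRing (Localization q.primeCompl) :=
    IsLocalization.isNoetherianRing q.primeCompl _ inferInstance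
  refine (injective_iff_map_eq_zero _).2 fun x hx => ?_
  obtain ⟨a, ha, hax⟩ := H7Flat.exists_one_add_smul_eq_zero_of_ker
    (S := Localization q.primeCompl) (M := LocalizedModule q.primeCompl M) I J
    (fun n P => hpow n _ (fun a ha y => by
      obtain ⟨y, rfl⟩ := Ideal.Quotient.mk_surjective y
      rw [Algebra.smul_def, Ideal.Quotient.algebraMap_eq, ← map_mul]
      exact Ideal.Quotient.eq_zero_iff_mem.2 (Ideal.mul_mem_right _ _ ha)) P) hx
  refine (IsUnit.smul_eq_zero ?_).1 hax
  have ha' : a ∈ IsLocalRing.maximalIdeal (Localization q.primeCompl) := by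
    rw [IsScalarTower.algebraMap_eq R S (Localization q.primeCompl), ← Ideal.map_map] at ha
    have := Ideal.map_mono (f := algebraMap S (Localization q.primeCompl)) hI ha
    rwa [Localization.AtPrime.map_eq_maximalIdeal] at this
  rcases IsLocalRing.isUnit_or_isUnit_of_add_one (a := 1 + a) (b := -a) (by ring) with h | h
  · exact h
  · exact absurd h ((IsLocalRing.mem_maximalIdeal _).1 (neg_mem ha'))

end Groth.Agent.H06EGA11
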