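import Groth.Agent.H06EGA11.KernelFP
import Groth.Agent.H8Props.FlatKernel
import Mathlib.RingTheory.LocalRing.Module
import Mathlib.RingTheory.LocalRing.ResidueField.Ideal
import Mathlib.RingTheory.Flat.EquationalCriterion

/-!
# The fibrewise criterion for projectivity (EGA IV 11.3.10, affine form)
-/

set_option autoImplicit false

universe u

open TensorProduct LinearMap

namespace Groth.Agent.H06EGA11

variable {A B L F M : Type u} [CommRing A] [CommRing B] [Algebra A B]
  [AddCommGroup L] [Module B L] [AddCommGroup F] [Module B F] [AddCommGroup M] [Module B M]
  [Module A M] [IsScalarTower A B M]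

/-- Tensoring with the fibre keeps injections with flat cokernel. -/
theorem baseChange_injective_of_flat [Module A L] [IsScalarTower A B L] [Module A F]
    [IsScalarTower A B F] [Module.Flat A M] (i : L →ₗ[B] F) (π : F →ₗ[B] M)
    (hi : Function.Injective i) (hπ : Function.Surjective π) (hex : Function.Exact i π)
    (K : Type u) [CommRing K] [Algebra A K] : Function.Injective (i.baseChange (B ⊗[A] K)) := by
  have h : Function.Injective ((i.restrictScalars A).rTensor K) :=
    (LinearMap.lTensor_inj_iff_rTensor_inj K (i.restrictScalars A)).1
      (LinearMap.lTensor_injective_of_exact_of_flat (π.restrictScalars A) hπ _ hi hex K)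
  show Function.Injective (i.lTensor (B ⊗[A] K))
  rw [LinearMap.lTensor_inj_iff_rTensor_inj]
  let e (X : Type u) [AddCommGroup X] [Module B X] [Module A X] [IsScalarTower A B X] :=
    AlgebraTensorModule.cancelBaseChange A B B X K
  have key : ∀ x, e F (i.rTensor (B ⊗[A] K) x) = (i.restrictScalars A).rTensor K (e L x) := by
    intro x
    induction x with
    | zero => simp
    | tmul l c =>
      induction c with
      | zero => simp
      | tmul b k => simp [e]
      | add c d hc hd => simp only [tmul_add, map_add, hc, hd]
    | add a b ha hb => simp only [map_add, ha, hb]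
  intro x y hxy
  exact (e L).injective (h ((key x).symm.trans ((congrArg (e F) hxy).trans (key y))))

/-- A surjection from a free module whose kernel stays injective on the fibres and whose fibres
are projective has flat target. -/
theorem flat_of_projective_fibres [Module A L] [IsScalarTower A B L] [Module A F]
    [IsScalarTower A B F] [Module.Flat A M] [Module.Finite B L] [Module.Finite B F] [Module.Free B F]
    (i : L →ₗ[B] F) (π : F →ₗ[B] M)
    (hi : Function.Injective i) (hπ : Function.Surjective π) (hex : Function.Exact i π)
    (h : ∀ (p : Ideal A) [p.IsPrime],
      Module.Projective (B ⊗[A] p.ResidueField) ((B ⊗[A] p.ResidueField) ⊗[B] M)) :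
    Module.Flat B M := by
  refine Module.flat_of_isLocalized_maximal (S := B) M
    (fun q _ => Localization.AtPrime q ⊗[B] M)
    (fun q _ => TensorProduct.mk B (Localization.AtPrime q) M 1) fun q hq => ?_
  let p := q.comap (algebraMap A B)
  let C := B ⊗[A] p.ResidueField
  let φ : p.ResidueField →ₐ[A] q.ResidueField :=
    { Ideal.ResidueField.map p q (algebraMap A B) rfl with
      commutes' := fun a =>
        (Ideal.ResidueField.map_algebraMap p q (algebraMap A B) rfl a).trans
          (IsScalarTower.algebraMap_apply A B q.ResidueField a).symm }
  letI : Algebra C q.ResidueField := (Algebra.TensorProduct.lift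
    (IsScalarTower.toAlgHom A B q.ResidueField) φ fun _ _ => .all _ _).toRingHom.toAlgebra
  haveI : IsScalarTower B C q.ResidueField := IsScalarTower.of_algebraMap_eq fun b => by
    refine Eq.trans ?_ (Algebra.TensorProduct.lift_tmul _ _ _ b (1 : p.ResidueField)).symm
    rw [map_one, mul_one]
    rfl
  haveI := h p
  have hex' : Function.Exact (i.baseChange C) (π.baseChange C) := lTensor_exact C hex hπ
  have hsurj : Function.Surjective (π.baseChange C) := LinearMap.lTensor_surjective C hπ
  have hsec : ∃ s, π.baseChange C ∘ₗ s = LinearMap.id :=
    Module.projective_lifting_property (π.baseChange C) LinearMap.id hsurj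
  have ht := (Function.Exact.split_tfae hex'
    (baseChange_injective_of_flat i π hi hπ hex p.ResidueField) hsurj).out 0 1
  obtain ⟨r, hr⟩ := ht.mp hsec
  have hk : Function.Injective (i.lTensor q.ResidueField) := by
    let e (X : Type u) [AddCommGroup X] [Module B X] :=
      AlgebraTensorModule.cancelBaseChange B C C q.ResidueField X
    have key : ∀ x, e F ((i.baseChange C).lTensor q.ResidueField x) =
        i.lTensor q.ResidueField (e L x) := by
      intro x
      induction x with
      | zero => simp
      | tmul a c =>
        induction c with
        | zero => simp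
        | tmul c l => simp [e]
        | add c d hc hd => simp only [tmul_add, map_add, hc, hd]
      | add a b ha hb => simp only [map_add, ha, hb]
    have hinj : Function.Injective ((i.baseChange C).lTensor q.ResidueField) := by
      refine Function.HasLeftInverse.injective ⟨r.lTensor q.ResidueField, fun x => ?_⟩
      rw [← LinearMap.lTensor_comp_apply, hr, LinearMap.lTensor_id, LinearMap.id_apply]
    intro x y hxy
    obtain ⟨x, rfl⟩ := (e L).surjective x
    obtain ⟨y, rfl⟩ := (e L).surjective y
    rw [← key, ← key] at hxy
    exact congrArg _ (hinj ((e F).injective hxy))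
  let Bq := Localization.AtPrime q
  have hkq : Function.Injective ((i.baseChange Bq).lTensor (IsLocalRing.ResidueField Bq)) := by
    let e (X : Type u) [AddCommGroup X] [Module B X] :=
      AlgebraTensorModule.cancelBaseChange B Bq Bq q.ResidueField X
    have key : ∀ x, e F ((i.baseChange Bq).lTensor q.ResidueField x) =
        i.lTensor q.ResidueField (e L x) := by
      intro x
      induction x with
      | zero => simp
      | tmul a c =>
        induction c with
        | zero => simp
        | tmul c l => simp [e]
        | add c d hc hd => simp only [tmul_add, map_add, hc, hd]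
      | add a b ha hb => simp only [map_add, ha, hb]
    intro x y hxy
    refine (e L).injective (hk ?_)
    rw [← key, ← key]
    exact congrArg _ hxy
  haveI : Module.Free Bq (Bq ⊗[B] M) := Module.free_of_lTensor_residueField_injective
    (i.baseChange Bq) (π.baseChange Bq) (LinearMap.lTensor_surjective Bq hπ)
    (lTensor_exact Bq hex hπ) hkq
  haveI : Module.Flat B Bq := IsLocalization.flat Bq q.primeCompl
  exact Module.Flat.trans B Bq (Bq ⊗[B] M)

variable (A B M) in
/-- EGA IV 11.3.10: a finitely presented module flat over the base is projective iff it is so on the
fibres. -/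
theorem projective_iff_fibres [Algebra.FinitePresentation A B] [Module.Flat A B]
    [Module.FinitePresentation B M] [Module.Flat A M] :
    Module.Projective B M ↔ ∀ (p : Ideal A) [p.IsPrime],
      Module.Projective (B ⊗[A] p.ResidueField) ((B ⊗[A] p.ResidueField) ⊗[B] M) := by
  refine ⟨fun _ p _ => inferInstance, fun h => ?_⟩
  obtain ⟨k, π, hπ⟩ := Module.Finite.exists_fin' B M
  haveI : Module.FinitePresentation B (LinearMap.ker π) := finitePresentation_ker (A := A) π hπ
  haveI := flat_of_projective_fibres (A := A) (LinearMap.ker π).subtype π Subtype.val_injective hπ
    π.exact_subtype_ker_map h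
  exact Module.Flat.projective_of_finitePresentation

end Groth.Agent.H06EGA11
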