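import Groth.Agent.H06EGA11.Open
import Mathlib.RingTheory.FinitePresentation
import Mathlib.Algebra.Module.FinitePresentation
import Mathlib.RingTheory.TensorProduct.MvPolynomial

/-!
# Models of finitely presented modules, and openness of the flat locus in general
-/

set_option autoImplicit false

universe u

open TensorProduct LinearMap PrimeSpectrum

namespace Groth.Agent.H06EGA11

/-- A module with a presentation by a matrix defined over `P₀` is a base change from `P₀`. -/
theorem exists_linearEquiv_baseChange {P₀ S N : Type u} [CommRing P₀] [CommRing S] [Algebra P₀ S]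
    [AddCommGroup N] [Module S N] {k m : ℕ} (v : Fin k → N) (c : Fin m → Fin k → P₀)
    (hv : Submodule.span S (Set.range v) = ⊤) (hc : ∀ i, ∑ j, algebraMap P₀ S (c i j) • v j = 0)
    (hrel : ∀ a : Fin k → S, ∑ j, a j • v j = 0 →
      a ∈ Submodule.span S (Set.range fun i j => algebraMap P₀ S (c i j))) :
    Nonempty ((S ⊗[P₀] ((Fin k → P₀) ⧸ Submodule.span P₀ (Set.range c))) ≃ₗ[S] N) := by
  classical
  letI : Module P₀ N := Module.compHom N (algebraMap P₀ S)
  haveI : IsScalarTower P₀ S N := IsScalarTower.of_algebraMap_smul fun _ _ => rfl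
  let M₀ := (Fin k → P₀) ⧸ Submodule.span P₀ (Set.range c)
  let l : M₀ →ₗ[P₀] N :=
    (Submodule.span P₀ (Set.range c)).liftQ (Fintype.linearCombination P₀ v) (Submodule.span_le.2 (by
      rintro _ ⟨i, rfl⟩
      show Fintype.linearCombination P₀ v (c i) = 0
      rw [Fintype.linearCombination_apply, ← hc i]
      exact Finset.sum_congr rfl fun j _ => (algebraMap_smul S (c i j) (v j)).symm))
  let e (j : Fin k) : S ⊗[P₀] M₀ := 1 ⊗ₜ Submodule.Quotient.mk (Pi.single j 1)
  let q : (Fin k → S) →ₗ[S] S ⊗[P₀] M₀ := Fintype.linearCombination S e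
  have hq : ∀ (s : S) (x : Fin k → P₀),
      q (fun j => s * algebraMap P₀ S (x j)) = s ⊗ₜ Submodule.Quotient.mk x := by
    intro s x
    have hx : (Submodule.Quotient.mk x : M₀) = ∑ j, x j • Submodule.Quotient.mk (Pi.single j 1) := by
      conv_lhs => rw [pi_eq_sum_univ' x]
      rw [← Submodule.mkQ_apply, map_sum]
      exact Finset.sum_congr rfl fun j _ => map_smul _ _ _
    rw [Fintype.linearCombination_apply, hx, TensorProduct.tmul_sum]
    refine Finset.sum_congr rfl fun j _ => ?_
    rw [mul_smul, algebraMap_smul, TensorProduct.tmul_smul]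
    show s • x j • ((1 : S) ⊗ₜ[P₀] (Submodule.Quotient.mk (Pi.single j 1) : M₀)) = _
    rw [smul_comm, TensorProduct.smul_tmul', smul_eq_mul, mul_one]
  have hqs : Function.Surjective q := by
    intro z
    induction z with
    | zero => exact ⟨0, map_zero q⟩
    | tmul s x =>
      obtain ⟨x, rfl⟩ := Submodule.Quotient.mk_surjective _ x
      exact ⟨_, hq s x⟩
    | add a b ha hb =>
      obtain ⟨x, rfl⟩ := ha
      obtain ⟨y, rfl⟩ := hb
      exact ⟨x + y, map_add q x y⟩
  let F : S ⊗[P₀] M₀ →ₗ[S] N := l.liftBaseChange S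
  have hFq : ∀ a, F (q a) = ∑ j, a j • v j := by
    intro a
    rw [Fintype.linearCombination_apply, map_sum]
    refine Finset.sum_congr rfl fun j _ => ?_
    rw [map_smul]
    congr 1
    show l.liftBaseChange S (1 ⊗ₜ Submodule.Quotient.mk (Pi.single j 1)) = v j
    rw [LinearMap.liftBaseChange_tmul, one_smul]
    show Fintype.linearCombination P₀ v (Pi.single j 1) = v j
    rw [Fintype.linearCombination_apply_single, one_smul]
  refine ⟨LinearEquiv.ofBijective F ⟨(injective_iff_map_eq_zero _).2 fun z hz => ?_, fun y => ?_⟩⟩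
  · obtain ⟨a, rfl⟩ := hqs z
    rw [hFq] at hz
    have ha := hrel a hz
    clear hz
    induction ha using Submodule.span_induction with
    | mem b hb =>
      obtain ⟨i, rfl⟩ := hb
      have := hq 1 (c i)
      simp only [one_mul] at this
      show q (fun j => algebraMap P₀ S (c i j)) = 0
      rw [this, (Submodule.Quotient.mk_eq_zero _).2 (Submodule.subset_span (Set.mem_range_self i)),
        TensorProduct.tmul_zero]
    | zero => exact map_zero q
    | add a b _ _ ha hb => rw [map_add, ha, hb, add_zero]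
    | smul s a _ ha => rw [map_smul, ha, smul_zero]
  · obtain ⟨a, ha⟩ := (Submodule.mem_span_range_iff_exists_fun S).1
      (hv.symm ▸ Submodule.mem_top (x := y))
    exact ⟨q a, (hFq a).trans ha⟩

attribute [local instance] Algebra.TensorProduct.rightAlgebra MvPolynomial.algebraMvPolynomial

/-- `R[x] ⊗ A ≅ A[x]`. -/
noncomputable def sigma (R A : Type u) [CommRing R] [CommRing A] [Algebra R A] (n : ℕ) :
    MvPolynomial (Fin n) R ⊗[R] A ≃+* MvPolynomial (Fin n) A :=
  RingEquiv.trans (Algebra.TensorProduct.comm R (MvPolynomial (Fin n) R) A).toRingEquiv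
    (Algebra.IsPushout.equiv R A (MvPolynomial (Fin n) R) (MvPolynomial (Fin n) A)).toRingEquiv

theorem sigma_algebraMap {R A : Type u} [CommRing R] [CommRing A] [Algebra R A] (n : ℕ) (a : A) :
    sigma R A n (algebraMap A (MvPolynomial (Fin n) R ⊗[R] A) a) = algebraMap A _ a :=
  (Algebra.IsPushout.equiv R A (MvPolynomial (Fin n) R) (MvPolynomial (Fin n) A)).commutes a

theorem sigma_algebraMap' {R A : Type u} [CommRing R] [CommRing A] [Algebra R A] (n : ℕ)
    (p : MvPolynomial (Fin n) R) :
    sigma R A n (algebraMap _ (MvPolynomial (Fin n) R ⊗[R] A) p) =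
      MvPolynomial.map (algebraMap R A) p := by
  show Algebra.IsPushout.equiv R A (MvPolynomial (Fin n) R) (MvPolynomial (Fin n) A) ((1 : A) ⊗ₜ p) = _
  rw [Algebra.IsPushout.equiv_tmul, map_one, one_mul]
  rfl

/-- A finitely presented module over `A[x]` comes from a finitely generated subring of `A`. -/
theorem exists_model {A : Type u} [CommRing A] {n : ℕ} (M : Type u) [AddCommGroup M]
    [Module (MvPolynomial (Fin n) A) M] [Module A M] [IsScalarTower A (MvPolynomial (Fin n) A) M]
    [Module.FinitePresentation (MvPolynomial (Fin n) A) M] :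
    ∃ (R₀ : Subalgebra ℤ A) (_ : R₀.FG) (M₀ : Type u) (_ : AddCommGroup M₀) (_ : Module R₀ M₀)
      (_ : Module (MvPolynomial (Fin n) R₀) M₀) (_ : IsScalarTower R₀ (MvPolynomial (Fin n) R₀) M₀)
      (_ : Module.Finite (MvPolynomial (Fin n) R₀) M₀)
      (σ : MvPolynomial (Fin n) R₀ ⊗[R₀] A ≃+* MvPolynomial (Fin n) A)
      (e : BC R₀ (MvPolynomial (Fin n) R₀) M₀ A ≃ₗ[A] M),
        (∀ a : A, σ (algebraMap A (MvPolynomial (Fin n) R₀ ⊗[R₀] A) a) = algebraMap A _ a) ∧
          ∀ s x, e (s • x) = σ s • e x := by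
  classical
  obtain ⟨k, m, f, g, hf, hfg⟩ := Module.FinitePresentation.exists_fin' (MvPolynomial (Fin n) A) M
  let G : Fin m → Fin k → MvPolynomial (Fin n) A := fun i => g (Pi.single i 1)
  let T : Finset A := Finset.univ.biUnion fun i => Finset.univ.biUnion fun j => (G i j).coeffs
  let R₀ := Algebra.adjoin ℤ (T : Set A)
  have hG : ∀ i j, ∃ c : MvPolynomial (Fin n) R₀, MvPolynomial.map (algebraMap R₀ A) c = G i j := by
    intro i j
    refine MvPolynomial.mem_range_map_iff_coeffs_subset.2 fun a ha => ?_
    exact ⟨⟨a, Algebra.subset_adjoin (Finset.mem_coe.2 (Finset.mem_biUnion.2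
      ⟨i, Finset.mem_univ i, Finset.mem_biUnion.2 ⟨j, Finset.mem_univ j, ha⟩⟩))⟩, rfl⟩
  choose c hc using hG
  let σ : MvPolynomial (Fin n) R₀ ⊗[R₀] A ≃+* MvPolynomial (Fin n) A := sigma R₀ A n
  have hσA : ∀ a : A, σ (algebraMap A (MvPolynomial (Fin n) R₀ ⊗[R₀] A) a) = algebraMap A _ a :=
    fun a => sigma_algebraMap n a
  have hσP : ∀ p : MvPolynomial (Fin n) R₀,
      σ (algebraMap _ (MvPolynomial (Fin n) R₀ ⊗[R₀] A) p) = MvPolynomial.map (algebraMap R₀ A) p :=
    fun p => sigma_algebraMap' n p
  letI : Module (MvPolynomial (Fin n) R₀ ⊗[R₀] A) M := Module.compHom M σ.toRingHom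
  have hsm : ∀ s (x : M), s • x = σ s • x := fun _ _ => rfl
  haveI : IsScalarTower A (MvPolynomial (Fin n) R₀ ⊗[R₀] A) M :=
    IsScalarTower.of_algebraMap_smul fun a x => by rw [hsm, hσA, algebraMap_smul]
  let v : Fin k → M := fun j => f (Pi.single j 1)
  have hfv : ∀ x : Fin k → MvPolynomial (Fin n) A, f x = ∑ j, x j • v j := fun x => by
    conv_lhs => rw [pi_eq_sum_univ' x, map_sum]
    simp only [map_smul, v]
  refine (exists_linearEquiv_baseChange (P₀ := MvPolynomial (Fin n) R₀)
    (S := MvPolynomial (Fin n) R₀ ⊗[R₀] A) v c ?_ ?_ ?_).elim fun e => ?_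
  · refine top_unique fun x _ => ?_
    obtain ⟨a, rfl⟩ := hf x
    rw [hfv]
    refine Submodule.sum_mem _ fun j _ => ?_
    rw [← σ.apply_symm_apply (a j)]
    exact Submodule.smul_mem _ (σ.symm (a j)) (Submodule.subset_span ⟨j, rfl⟩)
  · intro i
    simp only [hsm, hσP, hc]
    rw [← hfv]
    exact (hfg _).2 ⟨_, rfl⟩
  · intro a ha
    simp only [hsm] at ha
    rw [← hfv] at ha
    obtain ⟨b, hb⟩ := (hfg _).1 ha
    refine (Submodule.mem_span_range_iff_exists_fun _).2 ⟨fun i => σ.symm (b i), funext fun j => ?_⟩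
    apply σ.injective
    have hbj : g b j = ∑ i, b i * G i j := by
      conv_lhs => rw [pi_eq_sum_univ' b, map_sum]
      simp only [Finset.sum_apply, map_smul, Pi.smul_apply, smul_eq_mul, G]
    rw [← congrFun hb j, hbj, Finset.sum_apply, map_sum]
    refine Finset.sum_congr rfl fun i _ => ?_
    rw [Pi.smul_apply, smul_eq_mul, map_mul, σ.apply_symm_apply, hσP, hc]
  · exact ⟨R₀, Subalgebra.fg_adjoin_finset T, _, inferInstance, inferInstance, inferInstance,
      inferInstance, inferInstance, σ, e.restrictScalars A, hσA, fun s x => e.map_smul s x⟩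

section

variable {A B C M : Type u} [CommRing A] [CommRing B] [CommRing C] [Algebra A B] [Algebra B C]
  [Algebra A C] [IsScalarTower A B C] [AddCommGroup M] [Module C M] [Module B M] [Module A M]
  [IsScalarTower B C M] [IsScalarTower A C M] [IsScalarTower A B M]

/-- A semilinear surjection does not change flatness at a prime. -/
theorem flat_localizedModule_iff_comap (hπ : Function.Surjective (algebraMap B C)) (q : Ideal C)
    [q.IsPrime] : Module.Flat A (LocalizedModule q.primeCompl M) ↔
      Module.Flat A (LocalizedModule (q.comap (algebraMap B C)).primeCompl M) := by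
  constructor <;> intro _ <;> refine flat_localizedModule _ fun J x hx => ?_
  · obtain ⟨t, ht, htx⟩ := exists_smul_eq_zero_of_flat q.primeCompl J.subtype Subtype.val_injective x hx
    obtain ⟨s, rfl⟩ := hπ t
    exact ⟨s, ht, by rwa [algebraMap_smul] at htx⟩
  · obtain ⟨t, ht, htx⟩ := exists_smul_eq_zero_of_flat (q.comap (algebraMap B C)).primeCompl
      J.subtype Subtype.val_injective x hx
    exact ⟨algebraMap B C t, ht, by rwa [algebraMap_smul]⟩

/-- Flatness of `M` localised in `B` is flatness at all primes of `C` below. -/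
theorem flat_localizedModule_iff_forall (q : Ideal B) [q.IsPrime] :
    Module.Flat A (LocalizedModule q.primeCompl M) ↔ ∀ r : PrimeSpectrum C,
      r.asIdeal.comap (algebraMap B C) ≤ q →
        Module.Flat A (LocalizedModule r.asIdeal.primeCompl M) := by
  constructor
  · intro _ r hr
    refine flat_localizedModule _ fun J x hx => ?_
    obtain ⟨t, ht, htx⟩ := exists_smul_eq_zero_of_flat q.primeCompl J.subtype Subtype.val_injective x hx
    exact ⟨algebraMap B C t, fun h => ht (hr h), by rwa [algebraMap_smul]⟩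
  · intro h
    refine flat_localizedModule _ fun J x hx => ?_
    by_contra hne
    push Not at hne
    let I : Ideal C := LinearMap.ker (LinearMap.toSpanSingleton C (M ⊗[A] J) x)
    have hd : Disjoint (I : Set C) (Algebra.algebraMapSubmonoid C q.primeCompl : Set C) := by
      rw [Set.disjoint_left]
      rintro _ hI ⟨t, ht, rfl⟩
      refine hne t ht ?_
      have h0 : algebraMap B C t • x = 0 := hI
      rwa [algebraMap_smul] at h0
    obtain ⟨r, hr, hIr, hdr⟩ := Ideal.exists_le_prime_disjoint I _ hd
    haveI := h ⟨r, hr⟩ fun b hb => by_contra fun hbq =>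
      Set.disjoint_left.1 hdr hb ⟨b, hbq, rfl⟩
    obtain ⟨t, ht, htx⟩ := exists_smul_eq_zero_of_flat r.primeCompl J.subtype Subtype.val_injective x hx
    exact ht (hIr htx)

end

section

variable {A B M : Type u} [CommRing A] [CommRing B] [Algebra A B] [Algebra.FinitePresentation A B]
  [AddCommGroup M] [Module B M] [Module A M] [IsScalarTower A B M] [Module.FinitePresentation B M]

/-- EGA IV 11.3.1: the flat locus is open. -/
theorem isOpen_flatLocus : IsOpen (flatLocus A B M) := by
  obtain ⟨n, π, hπ, hker⟩ := Algebra.FinitePresentation.out (R := A) (A := B)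
  letI : Algebra (MvPolynomial (Fin n) A) B := π.toRingHom.toAlgebra
  haveI : IsScalarTower A (MvPolynomial (Fin n) A) B :=
    IsScalarTower.of_algebraMap_eq fun x => (π.commutes x).symm
  letI : Module (MvPolynomial (Fin n) A) M := Module.compHom M π.toRingHom
  haveI : IsScalarTower (MvPolynomial (Fin n) A) B M :=
    IsScalarTower.of_algebraMap_smul fun _ _ => rfl
  haveI : IsScalarTower A (MvPolynomial (Fin n) A) M :=
    IsScalarTower.of_algebraMap_smul fun a x => by
      show π (algebraMap A _ a) • x = a • x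
      rw [π.commutes, algebraMap_smul]
  haveI : Module.FinitePresentation (MvPolynomial (Fin n) A) B :=
    Module.finitePresentation_of_surjective (Algebra.linearMap (MvPolynomial (Fin n) A) B) hπ hker
  haveI : Module.FinitePresentation (MvPolynomial (Fin n) A) M :=
    Module.FinitePresentation.trans (MvPolynomial (Fin n) A) M B
  obtain ⟨R₀, hR₀, M₀, _, _, _, _, _, σ, e, hσA, he⟩ := exists_model (A := A) (n := n) M
  haveI : Algebra.FiniteType ℤ R₀ := R₀.fg_iff_finiteType.1 hR₀
  haveI : IsNoetherianRing R₀ := Algebra.FiniteType.isNoetherianRing ℤ R₀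
  have hopen := isOpen_flatLocus_baseChange (R₀ := R₀) (B₀ := MvPolynomial (Fin n) R₀) (M₀ := M₀)
    (A := A)
  convert (hopen.preimage (continuous_comap σ.toRingHom)).preimage
    (continuous_comap (algebraMap (MvPolynomial (Fin n) A) B)) using 1
  ext q
  set P := q.asIdeal.comap (algebraMap (MvPolynomial (Fin n) A) B) with hP
  show Module.Flat A (LocalizedModule q.asIdeal.primeCompl M) ↔ Module.Flat A
    (LocalizedModule (P.comap σ.toRingHom).primeCompl (BC R₀ (MvPolynomial (Fin n) R₀) M₀ A))
  rw [flat_localizedModule_iff_comap (B := MvPolynomial (Fin n) A) hπ q.asIdeal]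
  refine ⟨fun h => ?_, fun h => ?_⟩
  · haveI := h
    refine flat_localizedModule_of_equiv (R := A) (S := MvPolynomial (Fin n) R₀ ⊗[R₀] A)
      (S' := MvPolynomial (Fin n) A) (M := BC R₀ (MvPolynomial (Fin n) R₀) M₀ A) (M' := M)
      σ.symm.toRingHom e.symm
      (fun s x => e.injective ?_) (P.comap σ.toRingHom).primeCompl P.primeCompl
      ?_
    · rw [he, e.apply_symm_apply, e.apply_symm_apply]
      show s • x = σ (σ.symm s) • x
      rw [σ.apply_symm_apply]
    · intro s hs h'
      refine hs ?_
      have h2 : σ (σ.symm s) ∈ P := h'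
      rwa [σ.apply_symm_apply] at h2
  · haveI := h
    exact flat_localizedModule_of_equiv (R := A) (S' := MvPolynomial (Fin n) R₀ ⊗[R₀] A)
      (S := MvPolynomial (Fin n) A) (M' := BC R₀ (MvPolynomial (Fin n) R₀) M₀ A) (M := M)
      σ.toRingHom e he P.primeCompl
      (P.comap σ.toRingHom).primeCompl fun _ hs => hs

/-- The flat locus in an intermediate ring. -/
theorem isOpen_flatLocus_intermediate (C : Type u) {N : Type u} [CommRing C] [Algebra B C]
    [Algebra A C] [IsScalarTower A B C] [Algebra.FinitePresentation B C] [AddCommGroup N]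
    [Module C N] [Module B N] [Module A N] [IsScalarTower B C N] [IsScalarTower A C N]
    [IsScalarTower A B N] [Module.FinitePresentation C N] :
    IsOpen {q : PrimeSpectrum B | Module.Flat A (LocalizedModule q.asIdeal.primeCompl N)} := by
  haveI : Algebra.FinitePresentation A C := Algebra.FinitePresentation.trans A B C
  obtain ⟨J, hJ⟩ :=
    (isClosed_iff_zeroLocus_ideal _).1 (isOpen_flatLocus (A := A) (B := C) (M := N)).isClosed_compl
  rw [← isClosed_compl_iff]
  convert isClosed_zeroLocus ((J.comap (algebraMap B C) : Ideal B) : Set B) using 1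
  ext q
  simp only [Set.mem_compl_iff, Set.mem_ofPred_eq, mem_zeroLocus, SetLike.coe_subset_coe]
  rw [flat_localizedModule_iff_forall (C := C) q.asIdeal]
  constructor
  · intro h b hb
    by_contra hbq
    refine h fun r hr => ?_
    by_contra hflat
    have : r ∈ zeroLocus (J : Set C) := hJ ▸ hflat
    exact hbq (hr (this hb))
  · intro hle h
    have hd : Disjoint (J : Set C) (Algebra.algebraMapSubmonoid C q.asIdeal.primeCompl : Set C) := by
      rw [Set.disjoint_left]
      rintro _ hJb ⟨t, ht, rfl⟩
      exact ht (hle hJb)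
    obtain ⟨r, hr, hJr, hdr⟩ := Ideal.exists_le_prime_disjoint J _ hd
    have hmem : (⟨r, hr⟩ : PrimeSpectrum C) ∈ zeroLocus (J : Set C) := hJr
    rw [← hJ] at hmem
    exact hmem (h ⟨r, hr⟩ fun b hb => by_contra fun hbq =>
      Set.disjoint_left.1 hdr hb ⟨b, hbq, rfl⟩)

end

end Groth.Agent.H06EGA11
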