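import Groth.Agent.H06EGA11.Kernel

/-!
# Kernels of surjections onto finitely presented flat modules
-/

set_option autoImplicit false

universe u

open TensorProduct LinearMap

namespace Groth.Agent.H06EGA11

attribute [local instance] Algebra.TensorProduct.rightAlgebra

variable {R₀ B₀ M₀ : Type u} [CommRing R₀] [CommRing B₀] [Algebra R₀ B₀] [AddCommGroup M₀]
  [Module R₀ M₀] [Module B₀ M₀] [IsScalarTower R₀ B₀ M₀] [IsNoetherianRing R₀]
  [Algebra.FiniteType R₀ B₀] [Module.Finite B₀ M₀] {A : Type u} [CommRing A] [Algebra R₀ A]

theorem finitePresentation_ker_BC [Module.Flat A (BC R₀ B₀ M₀ A)] {G : Type u} [AddCommGroup G]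
    [Module (B₀ ⊗[R₀] A) G] [Module.FinitePresentation (B₀ ⊗[R₀] A) G]
    (g : G →ₗ[B₀ ⊗[R₀] A] BC R₀ B₀ M₀ A) (hg : Function.Surjective g) :
    Module.FinitePresentation (B₀ ⊗[R₀] A) (LinearMap.ker g) := by
  obtain ⟨R, hR, H⟩ := exists_stage_flat (R₀ := R₀) (B₀ := B₀) (M₀ := M₀) (A := A)
  have := H R le_rfl hR
  have : Algebra.FiniteType R₀ R := R.fg_iff_finiteType.1 hR
  have : IsNoetherianRing B₀ := Algebra.FiniteType.isNoetherianRing R₀ B₀
  have : IsNoetherianRing (B₀ ⊗[R₀] R) := Algebra.FiniteType.isNoetherianRing B₀ _
  obtain ⟨k, g₀, hg₀, hker⟩ :=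
    exists_surjective_finitePresentation_ker (B₀ := B₀) (M₀ := M₀) R.val
  exact finitePresentation_ker_of_ker g₀ hg₀ g hg

/-- The kernel of a surjection of finitely presented modules onto a flat one is finitely
presented. -/
theorem finitePresentation_ker {A B G M : Type u} [CommRing A] [CommRing B] [Algebra A B]
    [Algebra.FinitePresentation A B] [AddCommGroup G] [Module B G]
    [Module.FinitePresentation B G] [AddCommGroup M] [Module B M] [Module A M] [IsScalarTower A B M]
    [Module.FinitePresentation B M] [Module.Flat A M] (g : G →ₗ[B] M) (hg : Function.Surjective g) :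
    Module.FinitePresentation B (LinearMap.ker g) := by
  obtain ⟨n, π, hπ, hker⟩ := Algebra.FinitePresentation.out (R := A) (A := B)
  let P := MvPolynomial (Fin n) A
  letI : Algebra P B := π.toRingHom.toAlgebra
  haveI : IsScalarTower A P B := IsScalarTower.of_algebraMap_eq fun x => (π.commutes x).symm
  haveI : Module.FinitePresentation P B :=
    Module.finitePresentation_of_surjective (Algebra.linearMap P B) hπ hker
  letI : Module P M := Module.compHom M π.toRingHom
  haveI : IsScalarTower P B M := IsScalarTower.of_algebraMap_smul fun _ _ => rfl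
  haveI : IsScalarTower A P M := IsScalarTower.of_algebraMap_smul fun a x => by
    show π (algebraMap A _ a) • x = a • x
    rw [π.commutes, algebraMap_smul]
  letI : Module P G := Module.compHom G π.toRingHom
  haveI : IsScalarTower P B G := IsScalarTower.of_algebraMap_smul fun _ _ => rfl
  haveI : Module.FinitePresentation P M := Module.FinitePresentation.trans P M B
  haveI : Module.FinitePresentation P G := Module.FinitePresentation.trans P G B
  obtain ⟨R₀, hR₀, M₀, _, _, _, _, _, σ, e, hσA, he⟩ := exists_model (A := A) (n := n) M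
  haveI : Algebra.FiniteType ℤ R₀ := R₀.fg_iff_finiteType.1 hR₀
  haveI : IsNoetherianRing R₀ := Algebra.FiniteType.isNoetherianRing ℤ R₀
  let S := MvPolynomial (Fin n) R₀ ⊗[R₀] A
  letI : Algebra S P := σ.toRingHom.toAlgebra
  letI : Algebra S B := (π.toRingHom.comp σ.toRingHom).toAlgebra
  haveI : IsScalarTower S P B := IsScalarTower.of_algebraMap_eq fun _ => rfl
  letI : Module S G := Module.compHom G (π.toRingHom.comp σ.toRingHom)
  haveI : IsScalarTower S B G := IsScalarTower.of_algebraMap_smul fun _ _ => rfl
  letI : Module S M := Module.compHom M (π.toRingHom.comp σ.toRingHom)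
  haveI : IsScalarTower S B M := IsScalarTower.of_algebraMap_smul fun _ _ => rfl
  have hbot : LinearMap.ker (Algebra.linearMap S P) = ⊥ :=
    (Submodule.eq_bot_iff _).2 fun x hx => σ.injective (hx.trans (map_zero σ).symm)
  have hσP : Module.FinitePresentation S P :=
    haveI := Module.finitePresentation_of_projective S S
    Module.finitePresentation_of_surjective (R := S) (M := S) (N := P)
      (Algebra.linearMap S P) σ.surjective (by rw [hbot]; exact Submodule.fg_bot)
  haveI : Module.FinitePresentation S B := Module.FinitePresentation.trans S B P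
  haveI : Module.FinitePresentation S G := Module.FinitePresentation.trans S G B
  haveI : Module.Flat A (BC R₀ (MvPolynomial (Fin n) R₀) M₀ A) := Module.Flat.of_linearEquiv e
  let e' : M →ₗ[S] BC R₀ (MvPolynomial (Fin n) R₀) M₀ A :=
    { toFun := e.symm
      map_add' := map_add e.symm
      map_smul' := fun s x => e.injective (by
        rw [RingHom.id_apply, he, e.apply_symm_apply, e.apply_symm_apply]
        rfl) }
  have h := finitePresentation_ker_BC (e' ∘ₗ g.restrictScalars S) (e.symm.surjective.comp hg)
  have hk : LinearMap.ker (e' ∘ₗ g.restrictScalars S) = (LinearMap.ker g).restrictScalars S := by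
    ext x
    show e.symm (g x) = 0 ↔ g x = 0
    exact EmbeddingLike.map_eq_zero_iff
  rw [hk] at h
  haveI : Module.FinitePresentation S ↥(LinearMap.ker g) := h
  exact finitePresentation_of_surjective_algebraMap S
    (show Function.Surjective (π.toRingHom.comp σ.toRingHom) from hπ.comp σ.surjective)

end Groth.Agent.H06EGA11
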