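import Groth.Agent.H06EGA11.Descent

/-!
# Base change and transport of flatness at a prime
-/

set_option autoImplicit false

universe u

open TensorProduct LinearMap

namespace Groth.Agent.H06EGA11

section

variable {R S M : Type u} [CommRing R] [CommRing S] [Algebra R S] [AddCommGroup M] [Module R M]
  [Module S M] [IsScalarTower R S M]

/-- Flatness at a prime passes to generisations. -/
theorem flat_localizedModule_of_le (T T' : Submonoid S) (h : T ≤ T')
    [Module.Flat R (LocalizedModule T M)] : Module.Flat R (LocalizedModule T' M) :=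
  flat_localizedModule T' fun J x hx => by
    obtain ⟨t, ht, htx⟩ := exists_smul_eq_zero_of_flat T J.subtype Subtype.val_injective x hx
    exact ⟨t, h ht, htx⟩

/-- Transport along a semilinear isomorphism. -/
theorem flat_localizedModule_of_equiv {S' M' : Type u} [CommRing S'] [Algebra R S'] [AddCommGroup M']
    [Module R M'] [Module S' M'] [IsScalarTower R S' M'] (σ : S' →+* S) (e : M' ≃ₗ[R] M)
    (he : ∀ (s : S') (x : M'), e (s • x) = σ s • e x) (T : Submonoid S) (T' : Submonoid S')
    (hT : ∀ s ∈ T', σ s ∈ T) [Module.Flat R (LocalizedModule T' M')] :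
    Module.Flat R (LocalizedModule T M) :=
  flat_localizedModule T fun J x hx => by
    obtain ⟨y, rfl⟩ := (LinearEquiv.rTensor (↥J) e).surjective x
    have hy : J.subtype.lTensor M' y = 0 := by
      apply (LinearEquiv.rTensor R e).injective
      rw [map_zero, ← hx]
      show e.toLinearMap.rTensor R (J.subtype.lTensor M' y) =
        J.subtype.lTensor M (e.toLinearMap.rTensor J y)
      rw [← LinearMap.comp_apply, LinearMap.rTensor_comp_lTensor, ← LinearMap.lTensor_comp_rTensor]
      rfl
    obtain ⟨t, ht, hty⟩ := exists_smul_eq_zero_of_flat T' J.subtype Subtype.val_injective y hy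
    refine ⟨σ t, hT t ht, ?_⟩
    rw [← map_zero (LinearEquiv.rTensor (↥J) e), ← hty]
    clear hx hy hty
    induction y with
    | zero => simp
    | tmul m a => simp [TensorProduct.smul_tmul', he]
    | add a b ha hb => simp only [map_add, smul_add, ha, hb]

end

attribute [local instance] Algebra.TensorProduct.rightAlgebra

variable {R₀ B₀ M₀ : Type u} [CommRing R₀] [CommRing B₀] [Algebra R₀ B₀] [AddCommGroup M₀]
  [Module R₀ M₀] [Module B₀ M₀] [IsScalarTower R₀ B₀ M₀]
  {R' : Type u} [CommRing R'] [Algebra R₀ R'] {R'' : Type u} [CommRing R''] [Algebra R₀ R'']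

/-- Flatness at a prime is stable under base change. -/
theorem flat_localizedModule_baseChange (ι : R' →ₐ[R₀] R'') (q : Ideal (B₀ ⊗[R₀] R'')) [q.IsPrime]
    [Module.Flat R' (LocalizedModule (q.comap (mapBC B₀ ι).toRingHom).primeCompl
      (BC R₀ B₀ M₀ R'))] :
    Module.Flat R'' (LocalizedModule q.primeCompl (BC R₀ B₀ M₀ R'')) := by
  letI : Algebra R' R'' := ι.toRingHom.toAlgebra
  haveI : IsScalarTower R₀ R' R'' := IsScalarTower.of_algebraMap_eq fun x => (ι.commutes x).symm
  refine flat_localizedModule _ fun J x hx => ?_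
  obtain ⟨z, rfl⟩ := (psi (B₀ := B₀) (M₀ := M₀) R'' ↥J).surjective x
  have hz : (J.subtype.restrictScalars R₀).lTensor M₀ z = 0 := by
    apply (psi (B₀ := B₀) (M₀ := M₀) R'' R'').injective
    rw [psi_lTensor, hx, map_zero]
  have hz' : (J.subtype.restrictScalars R').lTensor (BC R₀ B₀ M₀ R')
      (psi (B₀ := B₀) (M₀ := M₀) R' ↥J z) = 0 := by
    rw [← psi_lTensor,
      show (J.subtype.restrictScalars R').restrictScalars R₀ = J.subtype.restrictScalars R₀ from rfl,
      hz, map_zero]
  obtain ⟨s, hs, hsz⟩ := exists_smul_eq_zero_of_flat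
    (q.comap (mapBC B₀ ι).toRingHom).primeCompl (J.subtype.restrictScalars R')
    Subtype.val_injective _ hz'
  refine ⟨mapBC B₀ ι s, hs, ?_⟩
  have h := psi_map_smul (M₀ := M₀) ι (LinearMap.id : ↥J →ₗ[R₀] ↥J) (fun r x => rfl) s z 0
    (by rw [map_zero, hsz])
  rw [map_zero, map_zero, LinearMap.lTensor_id, LinearMap.id_apply] at h
  exact h.symm

end Groth.Agent.H06EGA11
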