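import Groth.Agent.H06EGA11.Stage
import Mathlib.RingTheory.TensorProduct.DirectLimitFG
import Mathlib.RingTheory.FiniteType
import Mathlib.RingTheory.Adjoin.FG
import Mathlib.RingTheory.FiniteStability

/-!
# Noetherian descent of flatness at a point (EGA IV 11.2.6)
-/

set_option autoImplicit false

universe u

open TensorProduct LinearMap

namespace Groth.Agent.H06EGA11

attribute [local instance] Algebra.TensorProduct.rightAlgebra

variable {R₀ B₀ M₀ : Type u} [CommRing R₀] [CommRing B₀] [Algebra R₀ B₀] [AddCommGroup M₀]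
  [Module R₀ M₀] [Module B₀ M₀] [IsScalarTower R₀ B₀ M₀]

section

variable {R' : Type u} [CommRing R'] [Algebra R₀ R'] {R'' : Type u} [CommRing R''] [Algebra R₀ R'']

variable (B₀) in
/-- The map of base changes. -/
noncomputable def mapBC (ι : R' →ₐ[R₀] R'') : B₀ ⊗[R₀] R' →ₐ[B₀] B₀ ⊗[R₀] R'' :=
  Algebra.TensorProduct.map (AlgHom.id B₀ B₀) ι

theorem mapBC_tmul (ι : R' →ₐ[R₀] R'') (b : B₀) (r : R') : mapBC B₀ ι (b ⊗ₜ r) = b ⊗ₜ ι r := rfl

/-- The map `p R' → p R''`. -/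
noncomputable def mapIdeal (p : Ideal R₀) (ι : R' →ₐ[R₀] R'') :
    ↥(p.map (algebraMap R₀ R')) →ₗ[R₀] ↥(p.map (algebraMap R₀ R'')) :=
  (ι.toLinearMap.comp ((p.map (algebraMap R₀ R')).subtype.restrictScalars R₀)).codRestrict
    ((p.map (algebraMap R₀ R'')).restrictScalars R₀) fun x => by
      have h := Ideal.mem_map_of_mem ι.toRingHom x.2
      rw [Ideal.map_map, AlgHom.toRingHom_eq_coe, AlgHom.comp_algebraMap] at h
      exact h

theorem mapIdeal_coe (p : Ideal R₀) (ι : R' →ₐ[R₀] R'') (x : ↥(p.map (algebraMap R₀ R'))) :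
    (mapIdeal p ι x : R'') = ι (x : R') := rfl

theorem mapIdeal_comp_mulMap (p : Ideal R₀) (ι : R' →ₐ[R₀] R'') :
    mapIdeal p ι ∘ₗ mulMap p (1 : R') = mulMap p (1 : R'') := by
  ext x
  simp [mapIdeal_coe, mulMap_coe]

theorem mapIdeal_mapIdeal {R''' : Type u} [CommRing R'''] [Algebra R₀ R'''] (p : Ideal R₀)
    (ι : R' →ₐ[R₀] R'') (κ : R'' →ₐ[R₀] R''') :
    mapIdeal p κ ∘ₗ mapIdeal p ι = mapIdeal p (κ.comp ι) := rfl

variable {X : Type u} [AddCommGroup X] [Module R₀ X] [Module R' X] [IsScalarTower R₀ R' X]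
  {Y : Type u} [AddCommGroup Y] [Module R₀ Y] [Module R'' Y] [IsScalarTower R₀ R'' Y]

theorem psi_smul_tmul (b : B₀) (r : R') (m : M₀) (x : X) :
    psi (B₀ := B₀) R' X ((b • m) ⊗ₜ[R₀] (r • x)) =
      (b ⊗ₜ[R₀] r : B₀ ⊗[R₀] R') • psi (B₀ := B₀) R' X (m ⊗ₜ[R₀] x) := by
  rw [← TensorProduct.smul_tmul', psi_smul, psi_tmul, psi_tmul, TensorProduct.tmul_smul,
    ← algebraMap_smul (B₀ ⊗[R₀] R') r, smul_smul]
  congr 1
  show (b ⊗ₜ[R₀] (1 : R') : B₀ ⊗[R₀] R') * ((1 : B₀) ⊗ₜ r) = _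
  rw [Algebra.TensorProduct.tmul_mul_tmul, mul_one, one_mul]

/-- Multiplication by `B₀ ⊗ R'` is compatible with change of stage. -/
theorem psi_map_smul (ι : R' →ₐ[R₀] R'') (g : X →ₗ[R₀] Y)
    (hg : ∀ (r : R') (x : X), g (r • x) = ι r • g x) (c : B₀ ⊗[R₀] R') (z z' : M₀ ⊗[R₀] X)
    (h : psi (B₀ := B₀) R' X z' = c • psi (B₀ := B₀) R' X z) :
    psi (B₀ := B₀) R'' Y (g.lTensor M₀ z') =
      mapBC B₀ ι c • psi (B₀ := B₀) R'' Y (g.lTensor M₀ z) := by
  obtain rfl : z' = (psi (B₀ := B₀) R' X).symm (c • psi (B₀ := B₀) R' X z) := by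
    rw [← h, AddEquiv.symm_apply_apply]
  clear h
  induction c with
  | zero => simp
  | add c d hc hd => simp only [add_smul, map_add, hc, hd]
  | tmul b r =>
    induction z with
    | zero => simp
    | add x y hx hy => simp only [map_add, smul_add, hx, hy]
    | tmul m x =>
      rw [← psi_smul_tmul, AddEquiv.symm_apply_apply, LinearMap.lTensor_tmul, hg, psi_smul_tmul,
        mapBC_tmul, LinearMap.lTensor_tmul]

end

variable {A : Type u} [CommRing A] [Algebra R₀ A] (p : Ideal R₀)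

theorem exists_stage_mem (x : A) (hx : x ∈ p.map (algebraMap R₀ A)) :
    ∃ R : Subalgebra R₀ A, R.FG ∧ ∃ y : ↥(p.map (algebraMap R₀ R)), ((y : R) : A) = x := by
  classical
  induction hx using Submodule.span_induction with
  | mem x hx =>
    obtain ⟨a, ha, rfl⟩ := hx
    exact ⟨⊥, Subalgebra.fg_bot, ⟨_, Ideal.mem_map_of_mem _ ha⟩, rfl⟩
  | zero => exact ⟨⊥, Subalgebra.fg_bot, 0, rfl⟩
  | add a b _ _ ha hb =>
    obtain ⟨R, hR, y, rfl⟩ := ha
    obtain ⟨S, hS, z, rfl⟩ := hb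
    exact ⟨R ⊔ S, hR.sup hS, mapIdeal p (Subalgebra.inclusion le_sup_left) y +
      mapIdeal p (Subalgebra.inclusion le_sup_right) z, rfl⟩
  | smul c a _ ha =>
    obtain ⟨R, hR, y, rfl⟩ := ha
    let S : Subalgebra R₀ A := R ⊔ Algebra.adjoin R₀ ({c} : Finset A)
    have hc : c ∈ S := (le_sup_right : _ ≤ S) (Algebra.subset_adjoin (by simp))
    exact ⟨S, hR.sup (Subalgebra.fg_adjoin_finset _),
      (⟨c, hc⟩ : S) • mapIdeal p (Subalgebra.inclusion le_sup_left) y, rfl⟩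

/-- A relation over `A` holds at a finitely generated stage. -/
theorem exists_stage_eq_zero {R : Subalgebra R₀ A} (hR : R.FG)
    (z : M₀ ⊗[R₀] ↥(p.map (algebraMap R₀ R))) (hz : (mapIdeal p R.val).lTensor M₀ z = 0) :
    ∃ (S : Subalgebra R₀ A) (h : R ≤ S), S.FG ∧
      (mapIdeal p (Subalgebra.inclusion h)).lTensor M₀ z = 0 := by
  classical
  obtain ⟨N, hN, hzN⟩ := TensorProduct.exists_finite_submodule_right_of_setFinite {z}
    (Set.finite_singleton z)
  obtain ⟨u, rfl⟩ := hzN (Set.mem_singleton z)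
  let P := N.map (mapIdeal p R.val)
  have hP : P.FG := (Module.Finite.iff_fg.1 hN).map _
  let g : N →ₗ[R₀] P := (mapIdeal p R.val ∘ₗ N.subtype).codRestrict P fun x => ⟨x, x.2, rfl⟩
  have hu : P.subtype.rTensor M₀ (TensorProduct.comm R₀ M₀ P (g.lTensor M₀ u)) = 0 := by
    have h : P.subtype.lTensor M₀ (g.lTensor M₀ u) = 0 := by
      rw [← LinearMap.lTensor_comp_apply]
      rw [← LinearMap.lTensor_comp_apply] at hz
      exact hz
    generalize g.lTensor M₀ u = w at h ⊢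
    apply (TensorProduct.comm R₀ M₀ ↥(p.map (algebraMap R₀ A))).symm.injective
    rw [map_zero, ← h]
    clear h hz
    induction w with
    | zero => simp
    | tmul m a => rfl
    | add a b ha hb => simp only [map_add, ha, hb]
  obtain ⟨Q, hPQ, ⟨s, rfl⟩, hQ⟩ := TensorProduct.eq_zero_of_fg_of_subtype_eq_zero hP hu
  choose Rs hRs ys hys using fun x : ↥(p.map (algebraMap R₀ A)) => exists_stage_mem p x.1 x.2
  let S := R ⊔ s.sup Rs
  have hS : S.FG := hR.sup (Finset.sup_induction (p := Subalgebra.FG) Subalgebra.fg_bot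
    (fun a ha b hb => ha.sup hb) fun x _ => hRs x)
  refine ⟨S, le_sup_left, hS, ?_⟩
  have hinj : Function.Injective (mapIdeal p S.val) := fun a b h => by
    have h' := congrArg Subtype.val h
    exact Subtype.ext (Subtype.ext h')
  have hle : Submodule.span R₀ (s : Set ↥(p.map (algebraMap R₀ A))) ≤
      LinearMap.range (mapIdeal p S.val) := by
    refine Submodule.span_le.2 fun x hx => ?_
    refine ⟨mapIdeal p (Subalgebra.inclusion
      (show Rs x ≤ S from (Finset.le_sup hx).trans le_sup_right)) (ys x), Subtype.ext ?_⟩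
    exact hys x
  let k := (LinearEquiv.ofInjective (mapIdeal p S.val) hinj).symm.toLinearMap ∘ₗ
    Submodule.inclusion hle
  have hk : mapIdeal p (Subalgebra.inclusion (le_sup_left : R ≤ S)) ∘ₗ N.subtype =
      k ∘ₗ Submodule.inclusion hPQ ∘ₗ g := by
    refine LinearMap.ext fun x => hinj ?_
    exact (congrArg Subtype.val (LinearEquiv.apply_symm_apply
      (LinearEquiv.ofInjective (mapIdeal p S.val) hinj)
      (Submodule.inclusion hle (Submodule.inclusion hPQ (g x))))).symm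
  rw [← LinearMap.lTensor_comp_apply, hk]
  refine (LinearMap.lTensor_comp_apply M₀ k (Submodule.inclusion hPQ ∘ₗ g) u).trans ?_
  rw [LinearMap.lTensor_comp_apply M₀ (Submodule.inclusion hPQ) g u,
    show (Submodule.inclusion hPQ).lTensor M₀ (g.lTensor M₀ u) = 0 from ?_, map_zero]
  apply (TensorProduct.comm R₀ M₀ _).injective
  rw [map_zero, ← hQ]
  generalize g.lTensor M₀ u = w
  induction w with
  | zero => simp
  | tmul m a => rfl
  | add a b ha hb => simp only [map_add, ha, hb]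

/-- The kernel criterion at a stage. -/
def GoodKer (q : Ideal (B₀ ⊗[R₀] A)) (R : Subalgebra R₀ A) (k : M₀ ⊗[R₀] p) : Prop :=
  ∃ s : B₀ ⊗[R₀] R, mapBC B₀ R.val s ∉ q ∧
    s • psi (B₀ := B₀) R ↥(p.map (algebraMap R₀ R)) ((mulMap p (1 : R)).lTensor M₀ k) = 0

theorem GoodKer.mono {q : Ideal (B₀ ⊗[R₀] A)} {R S : Subalgebra R₀ A} (h : R ≤ S)
    {k : M₀ ⊗[R₀] p} (hk : GoodKer p q R k) : GoodKer p q S k := by
  obtain ⟨s, hs, hsk⟩ := hk
  refine ⟨mapBC B₀ (Subalgebra.inclusion h) s, ?_, ?_⟩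
  · convert hs using 2
    clear hs hsk
    induction s with
    | zero => simp
    | tmul b r => rfl
    | add a b ha hb => simp only [map_add, ha, hb]
  · have h2 := psi_map_smul (M₀ := M₀) (Subalgebra.inclusion h)
      (mapIdeal p (Subalgebra.inclusion h)) (fun r x => rfl) s
      ((mulMap p (1 : R)).lTensor M₀ k) 0 (by rw [map_zero, hsk])
    rw [map_zero, map_zero, ← LinearMap.lTensor_comp_apply, mapIdeal_comp_mulMap] at h2
    exact h2.symm

theorem exists_goodKer (q : Ideal (B₀ ⊗[R₀] A)) [q.IsPrime]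
    [Module.Flat A (LocalizedModule q.primeCompl (BC R₀ B₀ M₀ A))]
    (k : M₀ ⊗[R₀] p) (hk : p.subtype.lTensor M₀ k = 0) :
    ∃ R : Subalgebra R₀ A, R.FG ∧ GoodKer p q R k := by
  classical
  set IA := p.map (algebraMap R₀ A) with hIA
  have h0 : IA.subtype.lTensor (BC R₀ B₀ M₀ A)
      (psi (B₀ := B₀) A ↥IA ((mulMap p (1 : A)).lTensor M₀ k)) = 0 := by
    rw [← psi_lTensor, ← LinearMap.lTensor_comp_apply,
      show (IA.subtype.restrictScalars R₀) ∘ₗ mulMap p (1 : A) =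
        (Algebra.linearMap R₀ A) ∘ₗ p.subtype from LinearMap.ext fun x =>
          (mulMap_coe p (1 : A) x).trans (one_mul _),
      LinearMap.lTensor_comp_apply, hk, map_zero, map_zero]
  obtain ⟨s, hs, hsk⟩ := exists_smul_eq_zero_of_flat q.primeCompl IA.subtype
    Subtype.val_injective _ h0
  obtain ⟨F, hF⟩ := TensorProduct.exists_finset s
  let R₁ := Algebra.adjoin R₀ ((F.image Prod.snd : Finset A) : Set A)
  have hmem : ∀ x ∈ F, x.2 ∈ R₁ := fun x hx =>
    Algebra.subset_adjoin (Finset.mem_coe.2 (Finset.mem_image_of_mem _ hx))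
  let s₁ : B₀ ⊗[R₀] R₁ := ∑ x ∈ F.attach, x.1.1 ⊗ₜ ⟨x.1.2, hmem x.1 x.2⟩
  have hs₁ : mapBC B₀ R₁.val s₁ = s := by
    rw [hF, ← Finset.sum_attach F, map_sum]
    rfl
  obtain ⟨y, hy⟩ := (psi (B₀ := B₀) R₁ ↥(p.map (algebraMap R₀ R₁))).surjective
    (s₁ • psi (B₀ := B₀) R₁ _ ((mulMap p (1 : R₁)).lTensor M₀ k))
  have hy0 : (mapIdeal p R₁.val).lTensor M₀ y = 0 := by
    apply (psi (B₀ := B₀) (M₀ := M₀) A ↥IA).injective
    have h1 := psi_map_smul (M₀ := M₀) R₁.val (mapIdeal p R₁.val) (fun r x => rfl) s₁ _ y hy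
    rw [← LinearMap.lTensor_comp_apply, mapIdeal_comp_mulMap, hs₁] at h1
    rw [map_zero]
    exact h1.trans hsk
  obtain ⟨R₂, h12, hR₂, hy2⟩ :=
    exists_stage_eq_zero p (Subalgebra.fg_adjoin_finset _) y hy0
  refine ⟨R₂, hR₂, mapBC B₀ (Subalgebra.inclusion h12) s₁, ?_, ?_⟩
  · suffices mapBC B₀ R₂.val (mapBC B₀ (Subalgebra.inclusion h12) s₁) = s by rwa [this]
    rw [← hs₁]
    generalize s₁ = c
    induction c with
    | zero => simp
    | tmul b r => rfl
    | add a b ha hb => simp only [map_add, ha, hb]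
  · have h2 := psi_map_smul (M₀ := M₀) (Subalgebra.inclusion h12)
      (mapIdeal p (Subalgebra.inclusion h12)) (fun r x => rfl) s₁ _ y hy
    rw [hy2, map_zero, ← LinearMap.lTensor_comp_apply, mapIdeal_comp_mulMap] at h2
    exact h2.symm

/-- EGA IV 11.2.6 at a point. -/
theorem exists_stage_flat_at [IsNoetherianRing R₀] [Algebra.FiniteType R₀ B₀] [Module.Finite B₀ M₀]
    (q : Ideal (B₀ ⊗[R₀] A)) [q.IsPrime]
    [Module.Flat A (LocalizedModule q.primeCompl (BC R₀ B₀ M₀ A))] :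
    ∃ R₁ : Subalgebra R₀ A, R₁.FG ∧ ∀ R : Subalgebra R₀ A, R₁ ≤ R → R.FG →
      Module.Flat R (LocalizedModule (q.comap (mapBC B₀ R.val).toRingHom).primeCompl
        (BC R₀ B₀ M₀ R)) := by
  classical
  let p := q.comap (algebraMap R₀ (B₀ ⊗[R₀] A))
  haveI : IsNoetherianRing B₀ := Algebra.FiniteType.isNoetherianRing R₀ B₀
  haveI : Module.Finite B₀ (M₀ ⊗[R₀] p) :=
    H7Flat.finite_tensor (S := B₀) (M := M₀) (N := p) (R := R₀)
  obtain ⟨K, hK⟩ :=
    IsNoetherian.noetherian (LinearMap.ker (AlgebraTensorModule.lTensor B₀ M₀ p.subtype))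
  have hKmem : ∀ k ∈ K, p.subtype.lTensor M₀ k = 0 := fun k hk => by
    have : k ∈ LinearMap.ker (AlgebraTensorModule.lTensor B₀ M₀ p.subtype) :=
      hK ▸ Submodule.subset_span hk
    exact this
  choose Rk hRk hgood using fun k : K => exists_goodKer p q k.1 (hKmem k.1 k.2)
  refine ⟨Finset.univ.sup Rk, Finset.sup_induction (p := Subalgebra.FG) Subalgebra.fg_bot
    (fun a ha b hb => ha.sup hb) fun x _ => hRk x, fun R hR hRfg => ?_⟩
  haveI : Algebra.FiniteType R₀ R := R.fg_iff_finiteType.1 hRfg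
  haveI : IsNoetherianRing R := Algebra.FiniteType.isNoetherianRing R₀ R
  haveI : IsNoetherianRing (B₀ ⊗[R₀] R) := Algebra.FiniteType.isNoetherianRing B₀ _
  set qR := q.comap (mapBC B₀ R.val).toRingHom with hqR
  haveI : qR.IsPrime := Ideal.IsPrime.comap _
  haveI hflat : Module.Flat (R₀ ⧸ p) ((R₀ ⧸ p) ⊗[R₀]
      LocalizedModule (qR.comap (algebraMap B₀ (B₀ ⊗[R₀] R))).primeCompl M₀) := by
    refine flat_quotient_localizedModule p _ fun a ha h => ha ?_
    show algebraMap R₀ (B₀ ⊗[R₀] A) a ∈ q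
    have h' : mapBC B₀ R.val (algebraMap B₀ (B₀ ⊗[R₀] R) (algebraMap R₀ B₀ a)) ∈ q := h
    rwa [AlgHom.commutes, ← IsScalarTower.algebraMap_apply] at h'
  refine flat_stage R qR p ?_ fun k hk => ?_
  · rw [Ideal.map_map, Ideal.map_le_iff_le_comap]
    intro a ha
    have ha' : algebraMap R₀ (B₀ ⊗[R₀] A) a ∈ q := ha
    show mapBC B₀ R.val (algebraMap R (B₀ ⊗[R₀] R) (algebraMap R₀ R a)) ∈ q
    rw [← IsScalarTower.algebraMap_apply, IsScalarTower.algebraMap_apply R₀ B₀ (B₀ ⊗[R₀] R),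
      AlgHom.commutes, ← IsScalarTower.algebraMap_apply]
    exact ha'
  · have hk' : k ∈ Submodule.span B₀ (K : Set (M₀ ⊗[R₀] p)) := hK.symm ▸ hk
    clear hk
    show ∃ s, mapBC B₀ R.val s ∉ q ∧ _
    induction hk' using Submodule.span_induction with
    | mem x hx => exact (hgood ⟨x, hx⟩).mono p ((Finset.le_sup (Finset.mem_univ _)).trans hR)
    | zero => exact ⟨1, by rw [map_one]; exact fun h => ‹q.IsPrime›.ne_top ((q.eq_top_iff_one).2 h),
        by simp⟩
    | add a b _ _ ha hb =>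
      obtain ⟨s, hs, hsa⟩ := ha
      obtain ⟨s', hs', hsb⟩ := hb
      refine ⟨s * s', by rw [map_mul]; exact fun h => (‹q.IsPrime›.mem_or_mem h).elim hs hs', ?_⟩
      rw [map_add, map_add, smul_add, mul_smul, mul_smul, hsb, smul_zero, add_zero, smul_comm,
        hsa, smul_zero]
    | smul c a _ ha =>
      obtain ⟨s, hs, hsa⟩ := ha
      refine ⟨s, hs, ?_⟩
      rw [lTensor_smul', psi_smul, smul_comm, hsa, smul_zero]

end Groth.Agent.H06EGA11
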