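import Groth.Agent.H06EGA11.ProjDim
import Mathlib.Algebra.Category.ModuleCat.Projective
import Mathlib.CategoryTheory.Abelian.Projective.Resolution
import Mathlib.Algebra.Homology.ShortComplex.ModuleCat

/-!
# Resolutions by finite free modules of finitely presented modules flat over the base
-/

set_option autoImplicit false

universe u

open CategoryTheory Limits

namespace Groth.Agent.H06EGA11

variable {R : Type u} [CommRing R] {Q : ∀ l : ℕ, Submodule R (Fin l → R) → Prop}

/-- A map of finite free modules whose kernel satisfies `Q`. -/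
structure FreeStage (Q : ∀ l : ℕ, Submodule R (Fin l → R) → Prop) : Type u where
  k : ℕ
  l : ℕ
  f : (Fin k → R) →ₗ[R] (Fin l → R)
  good : Q k (LinearMap.ker f)

variable (hQ : ∀ (l : ℕ) (N : Submodule R (Fin l → R)), Q l N →
  ∃ (k : ℕ) (f : (Fin k → R) →ₗ[R] (Fin l → R)), LinearMap.range f = N ∧ Q k (LinearMap.ker f))

/-- The next map. -/
noncomputable def FreeStage.next (s : FreeStage Q) : FreeStage Q :=
  ⟨(hQ _ _ s.good).choose, s.k, (hQ _ _ s.good).choose_spec.choose,
    (hQ _ _ s.good).choose_spec.choose_spec.2⟩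

theorem FreeStage.range_next (s : FreeStage Q) :
    LinearMap.range (s.next hQ).f = LinearMap.ker s.f :=
  (hQ _ _ s.good).choose_spec.choose_spec.1

theorem FreeStage.apply_next (s : FreeStage Q) (x : Fin (s.next hQ).k → R) :
    s.f ((s.next hQ).f x) = (0 : Fin s.l → R) :=
  LinearMap.mem_ker.mp ((s.range_next hQ).le (LinearMap.mem_range_self (s.next hQ).f x))

/-- The iterated maps. -/
noncomputable def FreeStage.iter (s : FreeStage Q) : ℕ → FreeStage Q
  | 0 => s
  | n + 1 => (FreeStage.iter s n).next hQ

/-- The complex of finite free modules. -/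
noncomputable def FreeStage.complex (s : FreeStage Q) : ChainComplex (ModuleCat.{u} R) ℕ :=
  ChainComplex.of (fun n => ModuleCat.of R (Fin (s.iter hQ n).l → R))
    (fun n => ModuleCat.ofHom (s.iter hQ n).f)
    (fun n => ModuleCat.hom_ext (LinearMap.ext fun x => (s.iter hQ n).apply_next hQ x))

theorem FreeStage.complex_exactAt (s : FreeStage Q) (n : ℕ) : (s.complex hQ).ExactAt (n + 1) := by
  rw [HomologicalComplex.exactAt_iff' _ (n + 1 + 1) (n + 1) n (by simp) (by simp),
    ShortComplex.ShortExact.moduleCat_exact_iff_function_exact]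
  simp only [HomologicalComplex.sc', HomologicalComplex.shortComplexFunctor', FreeStage.complex,
    ChainComplex.of_d]
  exact LinearMap.exact_iff.mpr ((s.iter hQ n).range_next hQ).symm

include hQ in
theorem exists_finiteFree_resolution (M : Type u) [AddCommGroup M] [Module R M] (l : ℕ)
    (ε : (Fin l → R) →ₗ[R] M) (hε : Function.Surjective ε) (h : Q l (LinearMap.ker ε)) :
    ∃ P : ProjectiveResolution (ModuleCat.of R M),
      ∀ n : ℕ, Module.Finite R (P.complex.X n) ∧ Module.Free R (P.complex.X n) := by
  obtain ⟨k, f, hf, hg⟩ := hQ l _ h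
  let s : FreeStage Q := ⟨k, l, f, hg⟩
  have hd : (s.complex hQ).d 1 0 = ModuleCat.ofHom f := by simp [FreeStage.complex]; rfl
  have hεf : ∀ x, ε (f x) = 0 := fun x => LinearMap.mem_ker.mp (hf ▸ LinearMap.mem_range_self f x)
  refine ⟨{ complex := s.complex hQ
            projective := fun n =>
              (IsProjective.iff_projective (R := R) (Fin (s.iter hQ n).l → R)).mp inferInstance
            π := (ChainComplex.toSingle₀Equiv (s.complex hQ) (ModuleCat.of R M)).symm
              ⟨ModuleCat.ofHom ε, ?_⟩
            quasiIso := ⟨fun n => ?_⟩ }, fun n => ?_⟩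
  · rw [hd]
    exact ModuleCat.hom_ext (LinearMap.ext hεf)
  · cases n
    · rw [ChainComplex.quasiIsoAt₀_iff, ShortComplex.quasiIso_iff_of_zeros']
      · refine (ShortComplex.exact_and_epi_g_iff_of_iso (S₂ := ShortComplex.mk (ModuleCat.ofHom f)
          (ModuleCat.ofHom ε) (ModuleCat.hom_ext (LinearMap.ext hεf))) ?_).2
          ⟨(ShortComplex.ShortExact.moduleCat_exact_iff_function_exact _).mpr
            (LinearMap.exact_iff.mpr hf.symm), (ModuleCat.epi_iff_surjective _).mpr hε⟩
        exact ShortComplex.isoMk (Iso.refl _) (Iso.refl _) (Iso.refl _) (by simp [hd]; rfl)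
          (by simp; rfl)
      all_goals rfl
    · rw [quasiIsoAt_iff_exactAt']
      · apply FreeStage.complex_exactAt
      · apply ChainComplex.exactAt_succ_single_obj
  · show Module.Finite R (Fin (s.iter hQ n).l → R) ∧ Module.Free R (Fin (s.iter hQ n).l → R)
    exact ⟨inferInstance, inferInstance⟩

/-- A finitely presented module flat over the base has a resolution by finite free modules. -/
theorem exists_finiteFree_resolution_of_flat (A B M : Type u) [CommRing A] [CommRing B] [Algebra A B]
    [Algebra.FinitePresentation A B] [Module.Flat A B] [AddCommGroup M] [Module B M] [Module A M]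
    [IsScalarTower A B M] [Module.FinitePresentation B M] [Module.Flat A M] :
    ∃ P : ProjectiveResolution (ModuleCat.of B M),
      ∀ n : ℕ, Module.Finite B (P.complex.X n) ∧ Module.Free B (P.complex.X n) := by
  obtain ⟨l, ε, hε, hfp, hfl⟩ := exists_syzygy A B M
  refine exists_finiteFree_resolution (Q := fun _ N => Module.FinitePresentation B N ∧ Module.Flat A N)
    (fun l N hN => ?_) M l ε hε ⟨hfp, hfl⟩
  haveI := hN.1
  haveI := hN.2
  obtain ⟨k, π, hπ, h₁, h₂⟩ := exists_syzygy A B N
  refine ⟨k, N.subtype ∘ₗ π, ?_, ?_⟩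
  · rw [LinearMap.range_comp, LinearMap.range_eq_top.2 hπ, Submodule.map_top, Submodule.range_subtype]
  · rw [LinearMap.ker_comp_of_ker_eq_bot π N.ker_subtype]
    exact ⟨h₁, h₂⟩

end Groth.Agent.H06EGA11
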