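import Groth.Agent.H8Props.FlatLocus.Sheaf
import Mathlib.AlgebraicGeometry.Morphisms.QuasiCompact

/-!
# The points all of whose generizations avoid the image of a closed set
-/

set_option autoImplicit false

universe u

open CategoryTheory AlgebraicGeometry TopologicalSpace PrimeSpectrum

namespace Groth.Agent.H06EGA11

theorem isOpen_setOf_forall_specializes {X Y : Scheme.{u}} (f : X ⟶ Y) [QuasiCompact f]
    (Z : Set X) (hZ : IsClosed Z) :
    IsOpen {y : Y | ∀ y' : Y, y' ⤳ y → ∀ x : X, f x = y' → x ∉ Z} := by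
  rw [isOpen_iff_forall_mem_open]
  intro y hy
  obtain ⟨_, ⟨V, hV : IsAffineOpen V, rfl⟩, hyV, -⟩ :=
    Y.isBasis_affineOpens.exists_subset_of_mem_open (Set.mem_univ y) isOpen_univ
  obtain ⟨R, g, hg⟩ := isCompact_iff_exists.1 (f.isCompact_preimage hV.isCompact)
  haveI := hV.isOpenImmersion_fromSpec
  have hle : Set.range (g ≫ f) ⊆ Set.range hV.fromSpec := by
    rintro _ ⟨z, rfl⟩
    rw [hV.range_fromSpec]
    exact (hg.subset ⟨z, rfl⟩ : g z ∈ f ⁻¹ᵁ V)
  let h := IsOpenImmersion.lift hV.fromSpec (g ≫ f) hle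
  have hh : h ≫ hV.fromSpec = g ≫ f := IsOpenImmersion.lift_fac _ _ _
  obtain ⟨φ, hφ⟩ := Spec.map_surjective h
  obtain ⟨I, hI⟩ := (isClosed_iff_zeroLocus_ideal _).mp (hZ.preimage g.continuous)
  have hkey : ∀ z, hV.fromSpec (comap φ.hom z) = f (g z) := fun z => by
    have := congrArg (fun k => k.base z) hh
    rw [← hφ] at this
    exact this
  refine ⟨hV.fromSpec '' (zeroLocus ((I.comap φ.hom : Ideal Γ(Y, V)) : Set Γ(Y, V)))ᶜ, ?_,
    hV.fromSpec.isOpenEmbedding.isOpenMap _ (isClosed_zeroLocus _).isOpen_compl, ?_⟩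
  · rintro _ ⟨p, hp, rfl⟩ y' hy' x hx hxZ
    have hxV : x ∈ f ⁻¹ᵁ V := by
      show f x ∈ V
      rw [hx]
      exact hy'.mem_open V.2 (hV.range_fromSpec.subset ⟨p, rfl⟩)
    obtain ⟨z, rfl⟩ : x ∈ Set.range g := hg.symm.subset hxV
    have hz : z ∈ zeroLocus (I : Set R) := hI.subset hxZ
    rw [← hx, ← hkey z] at hy'
    have hle' := (le_iff_specializes _ _).2 (hV.fromSpec.isOpenEmbedding.isInducing.specializes_iff.1 hy')
    exact hp ((Ideal.comap_mono hz).trans hle')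
  · obtain ⟨p, rfl⟩ := hV.range_fromSpec.superset hyV
    refine ⟨p, fun hp => ?_, rfl⟩
    haveI : p.asIdeal.IsPrime := PrimeSpectrum.isPrime p
    obtain ⟨q, hqI, hq, hqle⟩ := p.asIdeal.exists_ideal_comap_le_prime I hp
    have hgen := ((le_iff_specializes (comap φ.hom ⟨q, hq⟩) p).1 hqle).map hV.fromSpec.continuous
    exact hy _ hgen (g ⟨q, hq⟩) (hkey ⟨q, hq⟩).symm (hI.superset hqI)

end Groth.Agent.H06EGA11
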