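import Groth.Agent.H06EGA11.Model

/-!
# Global Noetherian descent of flatness (EGA IV 11.2.6.1)
-/

set_option autoImplicit false

universe u

open TensorProduct LinearMap PrimeSpectrum

namespace Groth.Agent.H06EGA11

/-- A tensor relation over `A` holds at a finitely generated stage. -/
theorem exists_stage_tensor_eq_zero {R₀ N A : Type u} [CommRing R₀] [AddCommGroup N] [Module R₀ N]
    [CommRing A] [Algebra R₀ A] {R : Subalgebra R₀ A} (hR : R.FG) (z : N ⊗[R₀] R)
    (hz : R.val.toLinearMap.lTensor N z = 0) :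
    ∃ (S : Subalgebra R₀ A) (h : R ≤ S), S.FG ∧
      (Subalgebra.inclusion h).toLinearMap.lTensor N z = 0 := by
  have hcomm : ∀ {Q : Type u} [AddCommGroup Q] [Module R₀ Q] (f : R →ₗ[R₀] Q) (w : N ⊗[R₀] R),
      TensorProduct.comm R₀ N Q (f.lTensor N w) = f.rTensor N (TensorProduct.comm R₀ N R w) :=
    fun f w => by
      induction w with
      | zero => simp
      | tmul m a => rfl
      | add a b ha hb => simp only [map_add, ha, hb]
  obtain ⟨S, h, hS, h0⟩ := TensorProduct.Algebra.eq_of_fg_of_subtype_eq hR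
    (t := TensorProduct.comm R₀ N R z) (t' := 0)
    ((hcomm R.val.toLinearMap z).symm.trans (by rw [hz, map_zero, map_zero]))
  refine ⟨S, h, hS, (TensorProduct.comm R₀ N S).injective ?_⟩
  rw [hcomm, h0, map_zero, map_zero]

attribute [local instance] Algebra.TensorProduct.rightAlgebra

variable {R₀ B₀ M₀ : Type u} [CommRing R₀] [CommRing B₀] [Algebra R₀ B₀] [AddCommGroup M₀]
  [Module R₀ M₀] [Module B₀ M₀] [IsScalarTower R₀ B₀ M₀] {A : Type u} [CommRing A] [Algebra R₀ A]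

theorem mapBC_mapBC {R' R'' R''' : Type u} [CommRing R'] [Algebra R₀ R'] [CommRing R'']
    [Algebra R₀ R''] [CommRing R'''] [Algebra R₀ R'''] (ι : R' →ₐ[R₀] R'') (κ : R'' →ₐ[R₀] R''')
    (x : B₀ ⊗[R₀] R') : mapBC B₀ κ (mapBC B₀ ι x) = mapBC B₀ (κ.comp ι) x := by
  induction x with
  | zero => simp
  | tmul b r => rfl
  | add a b ha hb => simp only [map_add, ha, hb]

theorem exists_stage_lift (s : B₀ ⊗[R₀] A) :
    ∃ R : Subalgebra R₀ A, R.FG ∧ s ∈ Set.range (mapBC B₀ R.val) := by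
  classical
  obtain ⟨F, hF⟩ := TensorProduct.exists_finset s
  let R := Algebra.adjoin R₀ ((F.image Prod.snd : Finset A) : Set A)
  refine ⟨R, Subalgebra.fg_adjoin_finset _, ∑ x ∈ F.attach, x.1.1 ⊗ₜ ⟨x.1.2,
    Algebra.subset_adjoin (Finset.mem_coe.2 (Finset.mem_image_of_mem _ x.2))⟩, ?_⟩
  rw [hF, ← Finset.sum_attach F, map_sum]
  rfl

variable [IsNoetherianRing R₀] [Algebra.FiniteType R₀ B₀] [Module.Finite B₀ M₀]

/-- EGA IV 11.2.6.1. -/
theorem exists_stage_flat [Module.Flat A (BC R₀ B₀ M₀ A)] :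
    ∃ R₁ : Subalgebra R₀ A, R₁.FG ∧ ∀ R : Subalgebra R₀ A, R₁ ≤ R → R.FG →
      Module.Flat R (BC R₀ B₀ M₀ R) := by
  classical
  have hat : ∀ q : PrimeSpectrum (B₀ ⊗[R₀] A),
      Module.Flat A (LocalizedModule q.asIdeal.primeCompl (BC R₀ B₀ M₀ A)) := fun q => by
    refine flat_localizedModule _ fun J x hx => ⟨1, one_mem _, ?_⟩
    rw [one_smul]
    exact Module.Flat.lTensor_preserves_injective_linearMap J.subtype Subtype.val_injective
      (hx.trans (map_zero _).symm)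
  choose Rq hRq Hq using fun q : PrimeSpectrum (B₀ ⊗[R₀] A) =>
    haveI := hat q
    exists_stage_flat_at (M₀ := M₀) q.asIdeal
  have hopen : ∀ R : Subalgebra R₀ A, R.FG →
      IsOpen (flatLocus R (B₀ ⊗[R₀] R) (BC R₀ B₀ M₀ R)) := by
    intro R hR
    haveI : Algebra.FiniteType R₀ R := R.fg_iff_finiteType.1 hR
    haveI : IsNoetherianRing R := Algebra.FiniteType.isNoetherianRing R₀ R
    haveI : Algebra.FiniteType R (B₀ ⊗[R₀] R) :=
      Algebra.FiniteType.equiv (inferInstance : Algebra.FiniteType R (R ⊗[R₀] B₀))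
        (AlgEquiv.ofRingEquiv (f := (Algebra.TensorProduct.comm R₀ R B₀).toRingEquiv) fun _ => rfl)
    exact isOpen_flatLocus_of_noetherian
  obtain ⟨t, ht⟩ := isCompact_univ.elim_finite_subcover
    (fun q => comap (mapBC B₀ (Rq q).val).toRingHom ⁻¹'
      flatLocus (Rq q) (B₀ ⊗[R₀] Rq q) (BC R₀ B₀ M₀ (Rq q)))
    (fun q => (hopen _ (hRq q)).preimage (continuous_comap _))
    (fun q _ => Set.mem_iUnion.2 ⟨q, Hq q (Rq q) le_rfl (hRq q)⟩)
  let R' := t.sup Rq
  have hR' : R'.FG := Finset.sup_induction (p := Subalgebra.FG) Subalgebra.fg_bot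
    (fun a ha b hb => ha.sup hb) fun x _ => hRq x
  have himage : ∀ q : PrimeSpectrum (B₀ ⊗[R₀] A),
      comap (mapBC B₀ R'.val).toRingHom q ∈ flatLocus R' (B₀ ⊗[R₀] R') (BC R₀ B₀ M₀ R') := by
    intro q
    obtain ⟨i, hi, hq⟩ := Set.mem_iUnion₂.1 (ht (Set.mem_univ q))
    have hle : Rq i ≤ R' := Finset.le_sup hi
    show Module.Flat R' (LocalizedModule (q.asIdeal.comap (mapBC B₀ R'.val).toRingHom).primeCompl
      (BC R₀ B₀ M₀ R'))
    haveI : Module.Flat (Rq i) (LocalizedModule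
        ((q.asIdeal.comap (mapBC B₀ R'.val).toRingHom).comap
          (mapBC B₀ (Subalgebra.inclusion hle)).toRingHom).primeCompl (BC R₀ B₀ M₀ (Rq i))) := by
      haveI : Module.Flat (Rq i) (LocalizedModule
          (q.asIdeal.comap (mapBC B₀ (Rq i).val).toRingHom).primeCompl (BC R₀ B₀ M₀ (Rq i))) := hq
      refine flat_localizedModule_of_le (q.asIdeal.comap (mapBC B₀ (Rq i).val).toRingHom).primeCompl
        _ fun x hx h' => hx ?_
      have h2 : mapBC B₀ R'.val (mapBC B₀ (Subalgebra.inclusion hle) x) ∈ q.asIdeal := h'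
      rw [mapBC_mapBC] at h2
      exact h2
    exact flat_localizedModule_baseChange (Subalgebra.inclusion hle) _
  obtain ⟨J, hJ⟩ := (isClosed_iff_zeroLocus_ideal _).1 (hopen R' hR').isClosed_compl
  have htop : J.map (mapBC B₀ R'.val).toRingHom = ⊤ := by
    by_contra h
    obtain ⟨m, hm, hle⟩ := Ideal.exists_le_maximal _ h
    have h1 : comap (mapBC B₀ R'.val).toRingHom ⟨m, hm.isPrime⟩ ∈ zeroLocus (J : Set _) :=
      Ideal.map_le_iff_le_comap.1 hle
    rw [← hJ] at h1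
    exact h1 (himage _)
  obtain ⟨k, c, g, hsum⟩ := (Submodule.mem_span_set' (s := (mapBC B₀ R'.val).toRingHom '' J)).1
    ((Ideal.eq_top_iff_one _).1 htop)
  choose j₀ hj₀ hj₀' using fun i => (g i).2
  choose Rc hRc cl hcl using fun i => exists_stage_lift (B₀ := B₀) (c i)
  let R'' := R' ⊔ Finset.univ.sup Rc
  have hR'' : R''.FG := hR'.sup (Finset.sup_induction (p := Subalgebra.FG) Subalgebra.fg_bot
    (fun a ha b hb => ha.sup hb) fun x _ => hRc x)
  have h₁ : R' ≤ R'' := le_sup_left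
  have h₂ : ∀ i, Rc i ≤ R'' := fun i => (Finset.le_sup (Finset.mem_univ i)).trans le_sup_right
  let z : B₀ ⊗[R₀] R'' := 1 - ∑ i, mapBC B₀ (Subalgebra.inclusion (h₂ i)) (cl i) *
    mapBC B₀ (Subalgebra.inclusion h₁) (j₀ i)
  have hz : mapBC B₀ R''.val z = 0 := by
    rw [map_sub, map_one, map_sum, sub_eq_zero]
    refine hsum.symm.trans (Finset.sum_congr rfl fun i _ => ?_)
    rw [map_mul, mapBC_mapBC, mapBC_mapBC, smul_eq_mul, ← hj₀' i, ← hcl i]
    rfl
  have hlin : ∀ {X Y : Type u} [CommRing X] [Algebra R₀ X] [CommRing Y] [Algebra R₀ Y]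
      (ι : X →ₐ[R₀] Y) (w : B₀ ⊗[R₀] X), ι.toLinearMap.lTensor B₀ w = mapBC B₀ ι w := fun ι w => by
    induction w with
    | zero => simp
    | tmul b r => rfl
    | add a b ha hb => simp only [map_add, ha, hb]
  obtain ⟨R₁, h₃, hR₁, hz₁⟩ := exists_stage_tensor_eq_zero hR'' z ((hlin _ z).trans hz)
  rw [hlin] at hz₁
  refine ⟨R₁, hR₁, fun R hle hR => ?_⟩
  refine Module.flat_of_isLocalized_maximal (S := B₀ ⊗[R₀] R) (BC R₀ B₀ M₀ R)
    (fun P _ => LocalizedModule P.primeCompl (BC R₀ B₀ M₀ R))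
    (fun P _ => LocalizedModule.mkLinearMap P.primeCompl (BC R₀ B₀ M₀ R)) fun P hP => ?_
  have hR'R : R' ≤ R := (h₁.trans h₃).trans hle
  haveI : P.IsPrime := hP.isPrime
  let P' : PrimeSpectrum (B₀ ⊗[R₀] R') :=
    comap (mapBC B₀ (Subalgebra.inclusion hR'R)).toRingHom ⟨P, hP.isPrime⟩
  haveI : Module.Flat R' (LocalizedModule (P.comap
      (mapBC B₀ (Subalgebra.inclusion hR'R)).toRingHom).primeCompl (BC R₀ B₀ M₀ R')) := by
    by_contra hnf
    have hmem : P' ∈ zeroLocus (J : Set _) := hJ ▸ hnf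
    refine hP.ne_top ((Ideal.eq_top_iff_one P).2 ?_)
    have hz' := congrArg (mapBC B₀ (Subalgebra.inclusion hle)) hz₁
    rw [mapBC_mapBC, map_sub, map_one, map_sum, map_zero, sub_eq_zero] at hz'
    rw [hz']
    refine Ideal.sum_mem _ fun i _ => ?_
    rw [map_mul, mapBC_mapBC, mapBC_mapBC]
    exact Ideal.mul_mem_left _ _ (hmem (hj₀ i))
  exact flat_localizedModule_baseChange (Subalgebra.inclusion hR'R) P

end Groth.Agent.H06EGA11
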