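import Groth.Agent.H06EGA11.Loc
import Mathlib.LinearAlgebra.DirectSum.Finsupp
import Mathlib.LinearAlgebra.TensorProduct.RightExactness

/-!
# Kernels of `M ⊗ 𝔭R' → M ⊗ R'`

If `M / 𝔭 M` is flat over `R/𝔭` at `T`, then up to `T` this kernel is generated by the kernel of
`M ⊗ 𝔭 → M` (EGA IV 11.2.4).
-/

set_option autoImplicit false

universe u

open TensorProduct LinearMap

namespace Groth.Agent.H06EGA11

variable {R B M : Type u} [CommRing R] [CommRing B] [Algebra R B] [AddCommGroup M] [Module R M]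
  [Module B M] [IsScalarTower R B M] (p : Ideal R)

/-- The diagram chase behind EGA IV 11.2.4. -/
theorem exists_sub_ker {H G N : Type u} [AddCommGroup H] [Module R H] [AddCommGroup G] [Module R G]
    [AddCommGroup N] [Module R N] (T : Submonoid B)
    [Module.Flat (R ⧸ p) ((R ⧸ p) ⊗[R] LocalizedModule T M)]
    (i : H →ₗ[R] G) (π : G →ₗ[R] N) (hπ : Function.Surjective π)
    (hkill : ∀ a ∈ p, ∀ g : G, ∃ h, i h = a • g)
    (x : M ⊗[R] H) (hx : (π ∘ₗ i).lTensor M x = 0) :
    ∃ t ∈ T, ∃ v : M ⊗[R] LinearMap.ker (π ∘ₗ i),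
      i.lTensor M (t • x - (LinearMap.ker (π ∘ₗ i)).subtype.lTensor M v) = 0 := by
  let L := LinearMap.ker π
  let Lp := LinearMap.ker (π ∘ₗ i)
  obtain ⟨w, hw⟩ := (lTensor_exact M (f := L.subtype) (g := π) (fun z =>
      ⟨fun h => ⟨⟨z, h⟩, rfl⟩, by rintro ⟨v, rfl⟩; exact v.2⟩) hπ (i.lTensor M x)).1
    ((LinearMap.lTensor_comp_apply M π i x).symm.trans hx)
  let q : L →ₗ[R] G ⧸ LinearMap.range i := (LinearMap.range i).mkQ ∘ₗ L.subtype
  let j : Lp →ₗ[R] L := (i ∘ₗ Lp.subtype).codRestrict L fun z => z.2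
  have hex : Function.Exact j q.rangeRestrict := by
    intro z
    refine ⟨fun hz => ?_, ?_⟩
    · obtain ⟨h, hh⟩ := (Submodule.Quotient.mk_eq_zero _).1 (congrArg Subtype.val hz)
      exact ⟨⟨h, (congrArg π hh).trans z.2⟩, Subtype.ext hh⟩
    · rintro ⟨v, rfl⟩
      exact Subtype.ext ((Submodule.Quotient.mk_eq_zero _).2 ⟨v.1, rfl⟩)
  have hk : ∀ a ∈ p, ∀ y : G ⧸ LinearMap.range i, a • y = 0 := by
    intro a ha y
    obtain ⟨y, rfl⟩ := Submodule.mkQ_surjective _ y
    rw [← map_smul]
    exact (Submodule.Quotient.mk_eq_zero _).2 (hkill a ha y)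
  obtain ⟨t, ht, htw⟩ := exists_smul_eq_zero_of_injective T (LinearMap.range q).subtype
    (H1CAlg.FlatDev.lTensor_injective_of_killed p hk _) (q.rangeRestrict.lTensor M w) (by
      rw [← LinearMap.lTensor_comp_apply,
        show (LinearMap.range q).subtype ∘ₗ q.rangeRestrict = (LinearMap.range i).mkQ ∘ₗ L.subtype
          from rfl, LinearMap.lTensor_comp_apply, hw, ← LinearMap.lTensor_comp_apply,
        LinearMap.range_mkQ_comp, LinearMap.lTensor_zero, LinearMap.zero_apply])
  obtain ⟨v, hv⟩ := (lTensor_exact M hex q.surjective_rangeRestrict (t • w)).1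
    ((lTensor_smul' _ _ _).trans htw)
  refine ⟨t, ht, v, ?_⟩
  have h1 : i.lTensor M (Lp.subtype.lTensor M v) = L.subtype.lTensor M (j.lTensor M v) := by
    rw [← LinearMap.lTensor_comp_apply, ← LinearMap.lTensor_comp_apply]
    rfl
  rw [map_sub, h1, hv, lTensor_smul', lTensor_smul', hw, sub_self]

/-- Coordinates of the kernel on finitely supported functions. -/
theorem mem_iSup_of_lTensor_mapRange_eq_zero {ι P Q N : Type u} [AddCommGroup P] [Module R P]
    [AddCommGroup Q] [Module R Q] [AddCommGroup N] [Module R N] (f : P →ₗ[R] Q)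
    (μ : ι → P →ₗ[R] N) (y : M ⊗[R] (ι →₀ P))
    (hy : (Finsupp.mapRange.linearMap f).lTensor M y = 0) :
    (Finsupp.lsum R μ).lTensor M y ∈ ⨆ i : ι, (LinearMap.ker (AlgebraTensorModule.lTensor B M f)).map
      (AlgebraTensorModule.lTensor B M (μ i)) := by
  classical
  let e := TensorProduct.finsuppRight R R M P ι
  have hsymm : ∀ (r : ι) (z : M ⊗[R] P),
      e.symm (Finsupp.single r z) = (Finsupp.lsingle r).lTensor M z := fun r z => by
    induction z with
    | zero => simp
    | tmul m a => simp [e]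
    | add a b ha hb => simp only [Finsupp.single_add, map_add, ha, hb]
  rw [← e.symm_apply_apply y, ← Finsupp.sum_single (e y), map_finsuppSum, map_finsuppSum]
  refine Submodule.sum_mem _ fun r _ => Submodule.mem_iSup_of_mem r ⟨e y r, ?_, ?_⟩
  · show f.lTensor M (e y r) = 0
    rw [TensorProduct.finsuppRight_apply, ← LinearMap.lTensor_comp_apply,
      show f ∘ₗ Finsupp.lapply r = Finsupp.lapply r ∘ₗ Finsupp.mapRange.linearMap f from
        LinearMap.ext fun h => (Finsupp.mapRange_apply (hf := f.map_zero) (g := h) (a := r)).symm,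
      LinearMap.lTensor_comp_apply, hy, map_zero]
  · show (μ r).lTensor M (e y r) = _
    dsimp only
    rw [hsymm, ← LinearMap.lTensor_comp_apply]
    congr 2
    ext a
    simp

variable {R' : Type u} [CommRing R'] [Algebra R R']

/-- Multiplication by `r`, from `p` to `p R'`. -/
noncomputable def mulMap (r : R') : p →ₗ[R] ↥(p.map (algebraMap R R')) :=
  ((LinearMap.mulLeft R r).comp ((Algebra.linearMap R R').comp p.subtype)).codRestrict
    ((p.map (algebraMap R R')).restrictScalars R)
    fun x => Ideal.mul_mem_left _ _ (Ideal.mem_map_of_mem _ x.2)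

theorem mulMap_coe (r : R') (x : p) : (mulMap p r x : R') = r * algebraMap R R' x := rfl

variable (B M) in
/-- The submodule generated by the kernel of `M ⊗ p → M`. -/
noncomputable def kerSpan : Submodule B (M ⊗[R] ↥(p.map (algebraMap R R'))) :=
  ⨆ r : R', (LinearMap.ker (AlgebraTensorModule.lTensor B M p.subtype)).map
    (AlgebraTensorModule.lTensor B M (mulMap p r))

theorem comp_lsum_mulMap :
    ((p.map (algebraMap R R')).subtype.restrictScalars R) ∘ₗ
        Finsupp.lsum R (fun r : R' => mulMap p r) =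
      Finsupp.linearCombination R (id : R' → R') ∘ₗ Finsupp.mapRange.linearMap p.subtype := by
  refine Finsupp.lhom_ext fun r a => ?_
  simp [mulMap_coe, Algebra.smul_def, mul_comm]

theorem surjective_lsum_mulMap :
    Function.Surjective (Finsupp.lsum R fun r : R' => mulMap p r) := by
  have hmem : ∀ y ∈ p.map (algebraMap R R'), ∀ c : R', c * y ∈ LinearMap.range
      (((p.map (algebraMap R R')).subtype.restrictScalars R) ∘ₗ
        Finsupp.lsum R (fun r : R' => mulMap p r)) := by
    intro y hy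
    refine Submodule.span_induction ?_ ?_ ?_ ?_ hy
    · rintro _ ⟨a, ha, rfl⟩ c
      refine ⟨Finsupp.single c ⟨a, ha⟩, ?_⟩
      rw [LinearMap.comp_apply, Finsupp.lsum_single]
      rfl
    · intro c; rw [mul_zero]; exact zero_mem _
    · intro a b _ _ ha hb c; rw [mul_add]; exact add_mem (ha c) (hb c)
    · intro a b _ hb c; rw [smul_eq_mul, ← mul_assoc]; exact hb _
  rintro ⟨y, hy⟩
  obtain ⟨z, hz⟩ := hmem y hy 1
  exact ⟨z, Subtype.ext (hz.trans (one_mul y))⟩

/-- EGA IV 11.2.4. -/
theorem exists_smul_mem_kerSpan (T : Submonoid B)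
    [Module.Flat (R ⧸ p) ((R ⧸ p) ⊗[R] LocalizedModule T M)]
    (x : M ⊗[R] ↥(p.map (algebraMap R R')))
    (hx : ((p.map (algebraMap R R')).subtype.restrictScalars R).lTensor M x = 0) :
    ∃ t ∈ T, t • x ∈ kerSpan B M p (R' := R') := by
  obtain ⟨x', rfl⟩ := LinearMap.lTensor_surjective M (surjective_lsum_mulMap p) x
  rw [← LinearMap.lTensor_comp_apply, comp_lsum_mulMap] at hx
  obtain ⟨t, ht, v, hv⟩ := exists_sub_ker p T (Finsupp.mapRange.linearMap p.subtype)
    (Finsupp.linearCombination R (id : R' → R')) (Finsupp.linearCombination_id_surjective R R')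
    (fun a ha g => ⟨g.mapRange (fun c => (⟨a * c, p.mul_mem_right c ha⟩ : p))
      (Subtype.ext (mul_zero a)), Finsupp.ext fun r => rfl⟩) x' hx
  refine ⟨t, ht, ?_⟩
  have h3 : Finsupp.lsum R (fun r : R' => mulMap p r) ∘ₗ (LinearMap.ker
      (Finsupp.linearCombination R (id : R' → R') ∘ₗ Finsupp.mapRange.linearMap p.subtype)).subtype
      = 0 :=
    LinearMap.ext fun z => Subtype.ext ((DFunLike.congr_fun (comp_lsum_mulMap p) z.1).trans z.2)
  have h := mem_iSup_of_lTensor_mapRange_eq_zero (B := B) p.subtype (fun r : R' => mulMap p r) _ hv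
  rw [map_sub, ← LinearMap.lTensor_comp_apply, h3, LinearMap.lTensor_zero, LinearMap.zero_apply,
    sub_zero, lTensor_smul'] at h
  exact h

end Groth.Agent.H06EGA11
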