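import Groth.Agent.H06EGA11.Global
import Mathlib.RingTheory.Flat.Equalizer

/-!
# Kernels of surjections onto flat modules are finitely presented (EGA IV 11.3.8 ingredients)
-/

set_option autoImplicit false

universe u

open TensorProduct LinearMap

namespace Groth.Agent.H06EGA11

/-- A module over a quotient which is finitely presented over the ring is finitely presented. -/
theorem finitePresentation_of_surjective_algebraMap (P : Type u) {B L : Type u} [CommRing P]
    [CommRing B] [Algebra P B] [AddCommGroup L] [Module P L] [Module B L] [IsScalarTower P B L]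
    (hπ : Function.Surjective (algebraMap P B)) [Module.FinitePresentation P L] :
    Module.FinitePresentation B L := by
  let l : B ⊗[P] L →ₗ[B] L := LinearMap.liftBaseChange B (LinearMap.id : L →ₗ[P] L)
  refine Module.FinitePresentation.of_equiv (LinearEquiv.ofBijective l ⟨fun x y h => ?_,
    fun x => ⟨1 ⊗ₜ x, by simp [l]⟩⟩)
  have key : ∀ z : B ⊗[P] L, z = 1 ⊗ₜ l z := fun z => by
    induction z with
    | zero => simp
    | tmul b m =>
      obtain ⟨p, rfl⟩ := hπ b
      simp only [l, LinearMap.liftBaseChange_tmul, LinearMap.id_apply]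
      rw [algebraMap_smul, ← TensorProduct.smul_tmul, Algebra.algebraMap_eq_smul_one]
    | add a b ha hb => rw [map_add, TensorProduct.tmul_add, ← ha, ← hb]
  rw [key x, key y, h]

/-- If one surjection from a projective finitely presented module has finitely presented kernel,
every surjection from a finitely presented module does (Schanuel). -/
theorem finitePresentation_ker_of_ker {S F G M : Type u} [CommRing S] [AddCommGroup F] [Module S F]
    [AddCommGroup G] [Module S G] [AddCommGroup M] [Module S M] [Module.Projective S F]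
    (g₀ : F →ₗ[S] M) (hg₀ : Function.Surjective g₀)
    [Module.FinitePresentation S (LinearMap.ker g₀)] [Module.FinitePresentation S G]
    (g : G →ₗ[S] M) (hg : Function.Surjective g) :
    Module.FinitePresentation S (LinearMap.ker g) := by
  let X : Submodule S (G × F) :=
    LinearMap.ker (g ∘ₗ LinearMap.fst S G F - g₀ ∘ₗ LinearMap.snd S G F)
  have hX : ∀ v : X, g v.1.1 = g₀ v.1.2 := fun v => sub_eq_zero.1 v.2
  let pG : X →ₗ[S] G := LinearMap.fst S G F ∘ₗ X.subtype
  let pF : X →ₗ[S] F := LinearMap.snd S G F ∘ₗ X.subtype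
  have hpG : Function.Surjective pG := fun a => by
    obtain ⟨b, hb⟩ := hg₀ (g a)
    exact ⟨⟨(a, b), sub_eq_zero.2 hb.symm⟩, rfl⟩
  have hpF : Function.Surjective pF := fun b => by
    obtain ⟨a, ha⟩ := hg (g₀ b)
    exact ⟨⟨(a, b), sub_eq_zero.2 ha⟩, rfl⟩
  let e : LinearMap.ker g₀ ≃ₗ[S] LinearMap.ker pG :=
    { toFun := fun b => ⟨⟨(0, b.1), sub_eq_zero.2 ((map_zero g).trans b.2.symm)⟩, rfl⟩
      invFun := fun v => ⟨v.1.1.2, ((hX v.1).symm.trans (congrArg g v.2)).trans (map_zero g)⟩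
      left_inv := fun b => rfl
      right_inv := fun v => Subtype.ext (Subtype.ext (Prod.ext v.2.symm rfl))
      map_add' := fun a b => Subtype.ext (Subtype.ext (Prod.ext (add_zero 0).symm rfl))
      map_smul' := fun c a => Subtype.ext (Subtype.ext (Prod.ext (smul_zero c).symm rfl)) }
  have : Module.FinitePresentation S (LinearMap.ker pG) := by
    exact Module.FinitePresentation.of_equiv (R := S) (M := LinearMap.ker g₀) (N := LinearMap.ker pG) e
  have : Module.FinitePresentation S X := Module.finitePresentation_of_ker pG hpG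
  let i : LinearMap.ker g →ₗ[S] X :=
    { toFun := fun a => ⟨(a.1, 0), sub_eq_zero.2 (a.2.trans (map_zero g₀).symm)⟩
      map_add' := fun a b => Subtype.ext (Prod.ext rfl (add_zero 0).symm)
      map_smul' := fun c a => Subtype.ext (Prod.ext rfl (smul_zero c).symm) }
  refine Module.finitePresentation_of_projective_of_exact i pF (fun a b h => ?_) hpF fun v => ?_
  · exact Subtype.ext (congrArg (fun w : X => w.1.1) h)
  · refine ⟨fun hv => ⟨⟨v.1.1, ?_⟩, Subtype.ext (Prod.ext rfl hv.symm)⟩, ?_⟩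
    · exact ((hX v).trans (congrArg g₀ hv)).trans (map_zero g₀)
    · rintro ⟨a, rfl⟩
      rfl

attribute [local instance] Algebra.TensorProduct.rightAlgebra

variable {R₀ B₀ M₀ : Type u} [CommRing R₀] [CommRing B₀] [Algebra R₀ B₀] [AddCommGroup M₀]
  [Module R₀ M₀] [Module B₀ M₀] [IsScalarTower R₀ B₀ M₀] [Module.Finite B₀ M₀]

/-- Base change from a flat Noetherian stage: some surjection from a free module has finitely
presented kernel. -/
theorem exists_surjective_finitePresentation_ker {R' A : Type u} [CommRing R'] [Algebra R₀ R']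
    [CommRing A] [Algebra R₀ A] (ι : R' →ₐ[R₀] A) [IsNoetherianRing (B₀ ⊗[R₀] R')]
    [Module.Flat R' (BC R₀ B₀ M₀ R')] :
    ∃ (k : ℕ) (g : (Fin k → B₀ ⊗[R₀] A) →ₗ[B₀ ⊗[R₀] A] BC R₀ B₀ M₀ A),
      Function.Surjective g ∧ Module.FinitePresentation (B₀ ⊗[R₀] A) (LinearMap.ker g) := by
  classical
  letI : Algebra R' A := ι.toRingHom.toAlgebra
  haveI : IsScalarTower R₀ R' A := IsScalarTower.of_algebraMap_eq fun x => (ι.commutes x).symm
  letI : Algebra (B₀ ⊗[R₀] R') (B₀ ⊗[R₀] A) := (mapBC B₀ ι).toRingHom.toAlgebra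
  haveI : IsScalarTower B₀ (B₀ ⊗[R₀] R') (B₀ ⊗[R₀] A) :=
    IsScalarTower.of_algebraMap_eq fun x => ((mapBC B₀ ι).commutes x).symm
  letI : Algebra R' (B₀ ⊗[R₀] A) :=
    ((algebraMap A (B₀ ⊗[R₀] A)).comp (algebraMap R' A)).toAlgebra
  haveI : IsScalarTower R' A (B₀ ⊗[R₀] A) := IsScalarTower.of_algebraMap_eq fun _ => rfl
  haveI : IsScalarTower R' (B₀ ⊗[R₀] R') (B₀ ⊗[R₀] A) :=
    IsScalarTower.of_algebraMap_eq fun x => rfl
  haveI : IsScalarTower R₀ (B₀ ⊗[R₀] R') (B₀ ⊗[R₀] A) :=
    IsScalarTower.of_algebraMap_eq fun x => by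
      rw [IsScalarTower.algebraMap_apply R₀ B₀ (B₀ ⊗[R₀] R'),
        ← IsScalarTower.algebraMap_apply B₀ (B₀ ⊗[R₀] R') (B₀ ⊗[R₀] A),
        ← IsScalarTower.algebraMap_apply R₀ B₀ (B₀ ⊗[R₀] A)]
  haveI : Algebra.IsPushout R₀ R' B₀ (B₀ ⊗[R₀] R') := Algebra.IsPushout.symm inferInstance
  haveI : Algebra.IsPushout R₀ A B₀ (B₀ ⊗[R₀] A) := Algebra.IsPushout.symm inferInstance
  haveI : Algebra.IsPushout R' A (B₀ ⊗[R₀] R') (B₀ ⊗[R₀] A) :=
    (Algebra.IsPushout.comp_iff R₀ R' B₀ (B₀ ⊗[R₀] R') (T := A) (T' := B₀ ⊗[R₀] A)).1 inferInstance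
  obtain ⟨k, g, hg⟩ := Module.Finite.exists_fin' (B₀ ⊗[R₀] R') (BC R₀ B₀ M₀ R')
  let K := LinearMap.ker g
  haveI : Module.FinitePresentation (B₀ ⊗[R₀] R') K :=
    Module.finitePresentation_of_finite _ _
  let SR := B₀ ⊗[R₀] R'
  let S := B₀ ⊗[R₀] A
  have hex : Function.Exact K.subtype g := g.exact_subtype_ker_map
  have hinj : Function.Injective (K.subtype.baseChange (B₀ ⊗[R₀] A)) := by
    have h : Function.Injective ((K.subtype.restrictScalars R').lTensor A) :=
      LinearMap.lTensor_injective_of_exact_of_flat (g.restrictScalars R') hg _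
        Subtype.val_injective hex A
    let e (X : Type u) [AddCommGroup X] [Module (B₀ ⊗[R₀] R') X] [Module R' X]
        [IsScalarTower R' (B₀ ⊗[R₀] R') X] :=
      Algebra.IsPushout.cancelBaseChange R' A (B₀ ⊗[R₀] R') (B₀ ⊗[R₀] A) X
    have key : ∀ z, K.subtype.baseChange (B₀ ⊗[R₀] A) ((e K).symm z) =
        (e (Fin k → B₀ ⊗[R₀] R')).symm ((K.subtype.restrictScalars R').lTensor A z) := fun z => by
      induction z with
      | zero => simp
      | tmul a x => simp [e]
      | add a b ha hb => simp only [map_add, ha, hb]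
    intro x y hxy
    obtain ⟨x, rfl⟩ := (e K).symm.surjective x
    obtain ⟨y, rfl⟩ := (e K).symm.surjective y
    rw [key, key] at hxy
    exact congrArg _ (h ((e _).symm.injective hxy))
  let eF := TensorProduct.piScalarRight (B₀ ⊗[R₀] R') (B₀ ⊗[R₀] A) (B₀ ⊗[R₀] A) (Fin k)
  let eM := AlgebraTensorModule.cancelBaseChange B₀ (B₀ ⊗[R₀] R') (B₀ ⊗[R₀] A) (B₀ ⊗[R₀] A) M₀
  refine ⟨k, eM.toLinearMap ∘ₗ g.baseChange (B₀ ⊗[R₀] A) ∘ₗ eF.symm.toLinearMap, ?_, ?_⟩
  · exact eM.surjective.comp ((LinearMap.lTensor_surjective _ hg).comp eF.symm.surjective)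
  · let j := eF.toLinearMap ∘ₗ K.subtype.baseChange (B₀ ⊗[R₀] A)
    have hj : LinearMap.range j =
        LinearMap.ker (eM.toLinearMap ∘ₗ g.baseChange (B₀ ⊗[R₀] A) ∘ₗ eF.symm.toLinearMap) := by
      ext v
      have hv := lTensor_exact (B₀ ⊗[R₀] A) hex hg (eF.symm v)
      simp only [LinearMap.mem_range, LinearMap.mem_ker, LinearMap.comp_apply,
        LinearEquiv.coe_coe, EmbeddingLike.map_eq_zero_iff, j]
      refine ⟨?_, fun h => ?_⟩
      · rintro ⟨z, rfl⟩
        rw [eF.symm_apply_apply]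
        exact (lTensor_exact (B₀ ⊗[R₀] A) hex hg _).2 ⟨z, rfl⟩
      · obtain ⟨z, hz⟩ := hv.1 h
        exact ⟨z, by rw [← eF.apply_symm_apply v, ← hz]; rfl⟩
    rw [← hj]
    exact Module.FinitePresentation.of_equiv
      (LinearEquiv.ofInjective j (eF.injective.comp hinj))

end Groth.Agent.H06EGA11
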