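import Groth.Agent.H06EGA11.BaseChange
import Groth.Agent.H13Flat.Generic
import Mathlib.RingTheory.Spectrum.Prime.Topology
import Mathlib.RingTheory.TensorProduct.MvPolynomial
import Mathlib.RingTheory.FinitePresentation

/-!
# Openness of the flat locus (EGA IV 11.1.1 and 11.3.1)
-/

set_option autoImplicit false

universe u

open TensorProduct LinearMap PrimeSpectrum

namespace Groth.Agent.H06EGA11

/-- A specialisation-stable subset of a Noetherian spectrum is closed if its complement contains,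
around each of its points `q`, a nonempty open subset of `V(q)`. -/
theorem isClosed_of_stable {B : Type u} [CommRing B] [IsNoetherianRing B]
    (Z : Set (PrimeSpectrum B)) (hZ : ∀ a b : PrimeSpectrum B, a.asIdeal ≤ b.asIdeal → a ∈ Z → b ∈ Z)
    (hloc : ∀ a : PrimeSpectrum B, a ∉ Z → ∃ g ∉ a.asIdeal,
      ∀ b : PrimeSpectrum B, a.asIdeal ≤ b.asIdeal → g ∉ b.asIdeal → b ∉ Z) :
    IsClosed Z := by
  suffices ∀ I : Ideal B, IsClosed (Z ∩ zeroLocus (I : Set B)) by simpa using this ⊥
  intro I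
  induction I using IsNoetherian.induction with
  | hgt I ih =>
    by_cases htop : I = ⊤
    · subst htop
      simp
    by_cases hp : Ideal.IsPrime I
    · by_cases hIZ : (⟨I, hp⟩ : PrimeSpectrum B) ∈ Z
      · have hsub : zeroLocus (I : Set B) ⊆ Z := fun b hb => hZ ⟨I, hp⟩ b hb hIZ
        rw [Set.inter_eq_right.2 hsub]
        exact isClosed_zeroLocus _
      · obtain ⟨g, hg, hb⟩ := hloc ⟨I, hp⟩ hIZ
        have hg' : g ∉ I := hg
        rw [show Z ∩ zeroLocus (I : Set B) = Z ∩ zeroLocus ((I ⊔ Ideal.span {g} : Ideal B) : Set B)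
          from ?_]
        · exact ih _ (Submodule.lt_sup_iff_notMem.2 hg')
        · ext b
          simp only [Set.mem_inter_iff, mem_zeroLocus, SetLike.coe_subset_coe, sup_le_iff,
            Ideal.span_singleton_le_iff_mem, and_congr_right_iff]
          exact fun hbZ => ⟨fun h => ⟨h, by_contra fun hgb => hb b h hgb hbZ⟩, And.left⟩
    · obtain ⟨a, b, hab, ha, hb⟩ : ∃ a b, a * b ∈ I ∧ a ∉ I ∧ b ∉ I := by
        by_contra hne
        push Not at hne
        exact hp ⟨htop, fun {a b} hab => or_iff_not_imp_left.2 fun ha => hne a b hab ha⟩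
      rw [show Z ∩ zeroLocus (I : Set B) =
          (Z ∩ zeroLocus ((I ⊔ Ideal.span {a} : Ideal B) : Set B)) ∪
            (Z ∩ zeroLocus ((I ⊔ Ideal.span {b} : Ideal B) : Set B)) from ?_]
      · exact (ih _ (Submodule.lt_sup_iff_notMem.2 ha)).union (ih _ (Submodule.lt_sup_iff_notMem.2 hb))
      · ext c
        simp only [Set.mem_union, Set.mem_inter_iff, mem_zeroLocus, SetLike.coe_subset_coe,
          sup_le_iff, Ideal.span_singleton_le_iff_mem]
        constructor
        · rintro ⟨hc, h⟩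
          rcases c.isPrime.mem_or_mem (h hab) with h' | h'
          · exact Or.inl ⟨hc, h, h'⟩
          · exact Or.inr ⟨hc, h, h'⟩
        · rintro (⟨hc, h, -⟩ | ⟨hc, h, -⟩) <;> exact ⟨hc, h⟩

attribute [local instance] Algebra.TensorProduct.rightAlgebra

section Noetherian

variable {R B M : Type u} [CommRing R] [CommRing B] [Algebra R B] [AddCommGroup M]
  [Module R M] [Module B M] [IsScalarTower R B M]
  [IsNoetherianRing R] [Algebra.FiniteType R B] [Module.Finite B M]

theorem exists_smul_eq_zero_of_killed (p : Ideal R) [p.IsPrime] :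
    ∃ a ∉ p, ∀ (Q : Type u) [AddCommGroup Q] [Module R Q], (∀ c ∈ p, ∀ x : Q, c • x = 0) →
      ∀ (P : Submodule R Q) (x : M ⊗[R] P), P.subtype.lTensor M x = 0 →
        ∃ k : ℕ, algebraMap R B a ^ k • x = 0 := by
  have : IsNoetherianRing (R ⧸ p) :=
    isNoetherianRing_of_surjective _ _ (Ideal.Quotient.mk p) Ideal.Quotient.mk_surjective
  haveI : Algebra.FiniteType (R ⧸ p) (B ⊗[R] (R ⧸ p)) :=
    Algebra.FiniteType.equiv (inferInstance : Algebra.FiniteType (R ⧸ p) ((R ⧸ p) ⊗[R] B))
      (AlgEquiv.ofRingEquiv (f := (Algebra.TensorProduct.comm R (R ⧸ p) B).toRingEquiv)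
        fun _ => rfl)
  obtain ⟨f, hf, hk⟩ := H13Flat.genericFlat_of_finiteType (D := R ⧸ p) (B ⊗[R] (R ⧸ p))
    (BC R B M (R ⧸ p))
  obtain ⟨a, rfl⟩ := Ideal.Quotient.mk_surjective f
  refine ⟨a, fun ha => hf (Ideal.Quotient.eq_zero_iff_mem.2 ha), fun Q _ _ hQ P x hx => ?_⟩
  have ht : Module.IsTorsionBySet R Q p := fun y c => hQ c c.2 y
  letI : Module (R ⧸ p) Q := ht.module
  haveI : IsScalarTower R (R ⧸ p) Q := ht.isScalarTower
  let P' : Submodule (R ⧸ p) Q :=
    { P.toAddSubmonoid with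
      smul_mem' := fun r z hz => by
        obtain ⟨r, rfl⟩ := Ideal.Quotient.mk_surjective r
        rw [← Ideal.Quotient.algebraMap_eq, algebraMap_smul]
        exact P.smul_mem r hz }
  let g : P →ₗ[R] P' := { toFun := fun y => y, map_add' := fun _ _ => rfl, map_smul' := fun _ _ => rfl }
  let g' : P' →ₗ[R] P := { toFun := fun y => y, map_add' := fun _ _ => rfl, map_smul' := fun _ _ => rfl }
  have hgg : g'.comp g = LinearMap.id := rfl
  have := hk.flat_localizedModule
  have hy : P'.subtype.lTensor (BC R B M (R ⧸ p))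
      (psi (B₀ := B) (M₀ := M) (R ⧸ p) ↥P' (g.lTensor M x)) = 0 := by
    rw [← psi_lTensor, ← LinearMap.lTensor_comp_apply,
      show (P'.subtype.restrictScalars R) ∘ₗ g = P.subtype from rfl, hx, map_zero]
  obtain ⟨_, ⟨k, rfl⟩, hkz⟩ := exists_smul_eq_zero_of_flat
    (Submonoid.powers (Ideal.Quotient.mk p a)) P'.subtype Subtype.val_injective _ hy
  refine ⟨k, ?_⟩
  have hzero : algebraMap R B a ^ k • g.lTensor M x = 0 := by
    apply (psi (B₀ := B) (M₀ := M) (R ⧸ p) ↥P').injective
    rw [map_zero, psi_smul, ← hkz]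
    show _ = (Ideal.Quotient.mk p a ^ k) • psi (B₀ := B) (M₀ := M) (R ⧸ p) ↥P' (g.lTensor M x)
    rw [← algebraMap_smul (B ⊗[R] (R ⧸ p)) (Ideal.Quotient.mk p a ^ k)]
    congr 1
    rw [← map_pow, ← map_pow]
    exact (Algebra.TensorProduct.algebraMap_apply (A := B) (B := R ⧸ p) (a ^ k)).symm.trans
      (Algebra.TensorProduct.algebraMap_apply' (A := B) (B := R ⧸ p) (a ^ k))
  rw [← LinearMap.id_apply (R := R) x, ← LinearMap.lTensor_id, ← hgg, LinearMap.lTensor_comp_apply,
    ← lTensor_smul', hzero, map_zero]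

variable (R B M) in
/-- The flat locus. -/
def flatLocus : Set (PrimeSpectrum B) :=
  {q | Module.Flat R (LocalizedModule q.asIdeal.primeCompl M)}

/-- EGA IV 11.1.1. -/
theorem isOpen_flatLocus_of_noetherian : IsOpen (flatLocus R B M) := by
  classical
  haveI : IsNoetherianRing B := Algebra.FiniteType.isNoetherianRing R B
  rw [← isClosed_compl_iff]
  refine isClosed_of_stable _ (fun a b hab ha hb => ha ?_) fun q hq => ?_
  · exact @flat_localizedModule_of_le _ _ _ _ _ _ _ _ _ _ b.asIdeal.primeCompl a.asIdeal.primeCompl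
      (fun s hs h => hs (hab h)) hb
  · have hflat : Module.Flat R (LocalizedModule q.asIdeal.primeCompl M) := not_not.1 hq
    set p := q.asIdeal.comap (algebraMap R B) with hp
    obtain ⟨a, ha, hkill⟩ := exists_smul_eq_zero_of_killed (B := B) (M := M) p
    haveI : Module.Finite B (M ⊗[R] p) := H7Flat.finite_tensor (S := B) (M := M) (N := p) (R := R)
    obtain ⟨K, hK⟩ :=
      IsNoetherian.noetherian (LinearMap.ker (AlgebraTensorModule.lTensor B M p.subtype))
    have hKmem : ∀ k ∈ K, ∃ t ∈ q.asIdeal.primeCompl, t • k = 0 := fun k hk => by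
      have : k ∈ LinearMap.ker (AlgebraTensorModule.lTensor B M p.subtype) :=
        hK ▸ Submodule.subset_span hk
      exact exists_smul_eq_zero_of_flat _ p.subtype Subtype.val_injective k this
    choose t ht htk using hKmem
    let s := ∏ k ∈ K.attach, t k.1 k.2
    have hs : s ∈ q.asIdeal.primeCompl := prod_mem fun k _ => ht _ _
    refine ⟨algebraMap R B a * s, fun h => (q.isPrime.mem_or_mem h).elim ha hs,
      fun b hqb hb hbZ => hbZ ?_⟩
    refine flat_localizedModule_atPrime b.asIdeal p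
      ((Ideal.map_le_iff_le_comap.2 le_rfl).trans hqb) (fun x hx => ?_) fun Q _ _ hQ P x hx => ?_
    · refine ⟨s, fun h => hb (Ideal.mul_mem_left _ _ h), ?_⟩
      have hx' : x ∈ Submodule.span B (K : Set (M ⊗[R] p)) := hK.symm ▸ hx
      clear hx
      induction hx' using Submodule.span_induction with
      | mem k hk =>
        obtain ⟨c, hc⟩ : t k hk ∣ s := Finset.dvd_prod_of_mem _ (Finset.mem_attach K ⟨k, hk⟩)
        rw [hc, mul_comm, mul_smul, htk k hk, smul_zero]
      | zero => rw [smul_zero]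
      | add u v _ _ hu hv => rw [smul_add, hu, hv, add_zero]
      | smul c u _ hu => rw [smul_comm, hu, smul_zero]
    · obtain ⟨k, hk⟩ := hkill Q hQ P x hx
      exact ⟨_, pow_mem (show algebraMap R B a ∈ b.asIdeal.primeCompl from
        fun h => hb (Ideal.mul_mem_right _ _ h)) k, hk⟩

end Noetherian

variable {R₀ B₀ M₀ : Type u} [CommRing R₀] [CommRing B₀] [Algebra R₀ B₀] [AddCommGroup M₀]
  [Module R₀ M₀] [Module B₀ M₀] [IsScalarTower R₀ B₀ M₀] [IsNoetherianRing R₀]
  [Algebra.FiniteType R₀ B₀] [Module.Finite B₀ M₀] {A : Type u} [CommRing A] [Algebra R₀ A]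

/-- EGA IV 11.3.1, for a base change. -/
theorem isOpen_flatLocus_baseChange : IsOpen (flatLocus A (B₀ ⊗[R₀] A) (BC R₀ B₀ M₀ A)) := by
  refine isOpen_iff_forall_mem_open.2 fun q hq => ?_
  haveI : Module.Flat A (LocalizedModule q.asIdeal.primeCompl (BC R₀ B₀ M₀ A)) := hq
  obtain ⟨R, hR, H⟩ := exists_stage_flat_at (M₀ := M₀) q.asIdeal
  haveI : Algebra.FiniteType R₀ R := R.fg_iff_finiteType.1 hR
  haveI : IsNoetherianRing R := Algebra.FiniteType.isNoetherianRing R₀ R
  haveI : Algebra.FiniteType R (B₀ ⊗[R₀] R) :=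
    Algebra.FiniteType.equiv (inferInstance : Algebra.FiniteType R (R ⊗[R₀] B₀))
      (AlgEquiv.ofRingEquiv (f := (Algebra.TensorProduct.comm R₀ R B₀).toRingEquiv) fun _ => rfl)
  refine ⟨comap (mapBC B₀ R.val).toRingHom ⁻¹' flatLocus R (B₀ ⊗[R₀] R) (BC R₀ B₀ M₀ R),
    fun b hb => ?_, isOpen_flatLocus_of_noetherian.preimage (continuous_comap _), H R le_rfl hR⟩
  haveI : Module.Flat R (LocalizedModule (b.asIdeal.comap (mapBC B₀ R.val).toRingHom).primeCompl
      (BC R₀ B₀ M₀ R)) := hb
  exact flat_localizedModule_baseChange R.val b.asIdeal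

end Groth.Agent.H06EGA11
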