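import Groth.Agent.H06EGA11.FibreProjective
import Groth.Agent.H05EGA4.Dim
import Groth.Agent.H3CAlg.TorBasic
import Groth.Agent.H1CAlg.Tor
import Mathlib.RingTheory.LocalRing.Module
import Mathlib.RingTheory.Support
import Mathlib.CategoryTheory.Abelian.Projective.Dimension

/-!
# Projective dimension of finitely presented modules flat over the base (EGA IV 11.3 / 12.3)
-/

set_option autoImplicit false

universe u

open TensorProduct CategoryTheory Limits MonoidalCategory

namespace Groth.Agent.H06EGA11

variable (A B : Type u) [CommRing A] [CommRing B] [Algebra A B] [Algebra.FinitePresentation A B]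
  [Module.Flat A B]

/-- A first syzygy which is again finitely presented and flat over `A`. -/
theorem exists_syzygy (M : Type u) [AddCommGroup M] [Module B M] [Module A M] [IsScalarTower A B M]
    [Module.FinitePresentation B M] [Module.Flat A M] :
    ∃ (k : ℕ) (π : (Fin k → B) →ₗ[B] M), Function.Surjective π ∧
      Module.FinitePresentation B (LinearMap.ker π) ∧ Module.Flat A (LinearMap.ker π) := by
  obtain ⟨k, π, hπ⟩ := Module.Finite.exists_fin' B M
  haveI : Module.Flat A (Fin k → B) :=
    Module.Flat.trans A B (Fin k → B)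
  exact ⟨k, π, hπ, finitePresentation_ker (A := A) π hπ,
    H8Props.flat_of_exact ((LinearMap.ker π).subtype.restrictScalars A) (π.restrictScalars A)
      Subtype.val_injective π.exact_subtype_ker_map hπ⟩

/-- EGA IV 12.3: projective dimension is read on the fibres. -/
theorem hasProjectiveDimensionLE_iff_fibres (d : ℕ) :
    ∀ (M : Type u) [AddCommGroup M] [Module B M] [Module A M] [IsScalarTower A B M]
      [Module.FinitePresentation B M] [Module.Flat A M],
      HasProjectiveDimensionLE (ModuleCat.of B M) d ↔ ∀ p : PrimeSpectrum A,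
        HasProjectiveDimensionLE
          (ModuleCat.of (B ⊗[A] p.asIdeal.ResidueField) ((B ⊗[A] p.asIdeal.ResidueField) ⊗[B] M)) d := by
  induction d with
  | zero =>
    intro M _ _ _ _ _ _
    simp only [← projective_iff_hasProjectiveDimensionLE_zero, ← IsProjective.iff_projective]
    rw [projective_iff_fibres A B M]
    exact ⟨fun h p => h p.asIdeal, fun h p hp => h ⟨p, hp⟩⟩
  | succ d ih =>
    intro M _ _ _ _ _ _
    obtain ⟨k, π, hπ, hfp, hflat⟩ := exists_syzygy A B M
    refine ((H05EGA4.shortExact_of_surjective π hπ).hasProjectiveDimensionLT_X₃_iff d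
      ((IsProjective.iff_projective (R := B) (Fin k → B)).1 inferInstance)).trans
        ((ih (LinearMap.ker π)).trans (forall_congr' fun p => ?_))
    let C := B ⊗[A] p.asIdeal.ResidueField
    have hS : (ShortComplex.mk (ModuleCat.ofHom ((LinearMap.ker π).subtype.baseChange C))
        (ModuleCat.ofHom (π.baseChange C)) (ModuleCat.hom_ext (LinearMap.ext fun x =>
          (lTensor_exact C π.exact_subtype_ker_map hπ).apply_apply_eq_zero x))).ShortExact :=
      ModuleCat.shortComplex_shortExact _ (lTensor_exact C π.exact_subtype_ker_map hπ)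
        (baseChange_injective_of_flat (LinearMap.ker π).subtype π Subtype.val_injective hπ
          π.exact_subtype_ker_map p.asIdeal.ResidueField) (LinearMap.lTensor_surjective C hπ)
    exact (hS.hasProjectiveDimensionLT_X₃_iff d
      ((IsProjective.iff_projective (R := C) (C ⊗[B] (Fin k → B))).1 inferInstance)).symm

theorem subsingleton_iff_fibres (M : Type u) [AddCommGroup M] [Module B M] [Module A M]
    [IsScalarTower A B M] [Module.FinitePresentation B M] [Module.Flat A M] :
    Subsingleton M ↔ ∀ p : PrimeSpectrum A,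
      Subsingleton ((B ⊗[A] p.asIdeal.ResidueField) ⊗[B] M) := by
  refine ⟨fun _ p => inferInstance, fun h => ?_⟩
  rw [← Module.support_eq_empty_iff (R := B)]
  refine Set.eq_empty_iff_forall_notMem.2 fun q hq => ?_
  rw [Module.mem_support_iff_nontrivial_residueField_tensorProduct] at hq
  let p : PrimeSpectrum A := PrimeSpectrum.comap (algebraMap A B) q
  let φ : p.asIdeal.ResidueField →ₐ[A] q.asIdeal.ResidueField :=
    { Ideal.ResidueField.map p.asIdeal q.asIdeal (algebraMap A B) rfl with
      commutes' := fun a =>
        (Ideal.ResidueField.map_algebraMap p.asIdeal q.asIdeal (algebraMap A B) rfl a).trans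
          (IsScalarTower.algebraMap_apply A B q.asIdeal.ResidueField a).symm }
  letI : Algebra (B ⊗[A] p.asIdeal.ResidueField) q.asIdeal.ResidueField :=
    (Algebra.TensorProduct.lift (IsScalarTower.toAlgHom A B q.asIdeal.ResidueField) φ
      fun _ _ => .all _ _).toRingHom.toAlgebra
  haveI : IsScalarTower B (B ⊗[A] p.asIdeal.ResidueField) q.asIdeal.ResidueField :=
    IsScalarTower.of_algebraMap_eq fun b => by
      refine Eq.trans ?_
        (Algebra.TensorProduct.lift_tmul _ _ _ b (1 : p.asIdeal.ResidueField)).symm
      rw [map_one, mul_one]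
      rfl
  haveI := h p
  exact not_subsingleton _
    (AlgebraTensorModule.cancelBaseChange B (B ⊗[A] p.asIdeal.ResidueField)
      (B ⊗[A] p.asIdeal.ResidueField) q.asIdeal.ResidueField M).symm.toEquiv.subsingleton

/-- The projective dimension is the supremum of those of the fibres. -/
theorem projectiveDimension_eq_iSup (M : Type u) [AddCommGroup M] [Module B M] [Module A M]
    [IsScalarTower A B M] [Module.FinitePresentation B M] [Module.Flat A M] :
    projectiveDimension (ModuleCat.of B M) =
      ⨆ p : PrimeSpectrum A, projectiveDimension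
        (ModuleCat.of (B ⊗[A] p.asIdeal.ResidueField)
          ((B ⊗[A] p.asIdeal.ResidueField) ⊗[B] M)) := by
  refine eq_of_forall_ge_iff fun n => ?_
  rw [iSup_le_iff]
  induction n with
  | bot =>
    simp only [le_bot_iff, projectiveDimension_eq_bot_iff, ModuleCat.isZero_iff_subsingleton]
    exact subsingleton_iff_fibres A B M
  | coe n =>
    induction n with
    | top => exact ⟨fun _ _ => le_top, fun _ => le_top⟩
    | coe n =>
      show projectiveDimension _ ≤ (n : WithBot ℕ∞) ↔ ∀ p, _ ≤ (n : WithBot ℕ∞)
      simp only [projectiveDimension_le_iff]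
      exact hasProjectiveDimensionLE_iff_fibres A B n M

/-- Vanishing of `Tor` above `d` detects projective dimension `≤ d`. -/
theorem hasProjectiveDimensionLE_iff_tor (d : ℕ) :
    ∀ (M : Type u) [AddCommGroup M] [Module B M] [Module A M] [IsScalarTower A B M]
      [Module.FinitePresentation B M] [Module.Flat A M],
      HasProjectiveDimensionLE (ModuleCat.of B M) d ↔ ∀ i : ℕ, d < i → ∀ N : ModuleCat.{u} B,
        IsZero (((Tor (ModuleCat.{u} B) i).obj (ModuleCat.of B M)).obj N) := by
  induction d with
  | zero =>
    intro M _ _ _ _ _ _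
    rw [← projective_iff_hasProjectiveDimensionLE_zero, ← IsProjective.iff_projective]
    constructor
    · intro _ i hi N
      obtain ⟨j, rfl⟩ : ∃ j, i = j + 1 := ⟨i - 1, by omega⟩
      exact H1CAlg.isZero_Tor_of_flat (ModuleCat.of B M) N j
    · intro h
      haveI : Module.Flat B M := by
        refine Module.Flat.iff_lTensor_injective'.2 fun I => ?_
        haveI : Projective (ShortComplex.mk (ModuleCat.ofHom I.subtype)
            (ModuleCat.ofHom (Submodule.mkQ I)) (ModuleCat.hom_ext (LinearMap.ext fun x =>
              (Submodule.Quotient.mk_eq_zero I).2 x.2))).X₂ :=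
          (IsProjective.iff_projective (R := B) B).1 inferInstance
        exact (H3CAlg.Tor.isZero_one_iff_injective (ModuleCat.of B M) _
          (H05EGA4.shortExact_of_submodule (M := B) I)).1 (h 1 one_pos _)
      exact Module.Flat.projective_of_finitePresentation
  | succ d ih =>
    intro M _ _ _ _ _ _
    obtain ⟨k, π, hπ, hfp, hflat⟩ := exists_syzygy A B M
    have hS := H05EGA4.shortExact_of_surjective π hπ
    refine (hS.hasProjectiveDimensionLT_X₃_iff d
      ((IsProjective.iff_projective (R := B) (Fin k → B)).1 inferInstance)).trans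
        ((ih (LinearMap.ker π)).trans ⟨fun h i hi N => ?_, fun h i hi N => ?_⟩)
    · obtain ⟨j, rfl⟩ : ∃ j, i = j + 1 := ⟨i - 1, by omega⟩
      obtain ⟨-, -, δ, w₁, w₂, h₁, h₂⟩ := H3CAlg.Tor.les₁ N _ hS j
      exact h₁.isZero_X₂ ((H1CAlg.isZero_Tor_of_flat (ModuleCat.of B (Fin k → B)) N j).eq_of_src _ _)
        ((h j (by omega) N).eq_of_tgt _ _)
    · obtain ⟨j, rfl⟩ : ∃ j, i = j + 1 := ⟨i - 1, by omega⟩
      obtain ⟨-, -, δ, w₁, w₂, h₁, h₂⟩ := H3CAlg.Tor.les₁ N _ hS (j + 1)
      exact h₂.isZero_X₂ ((h (j + 2) (by omega) N).eq_of_src _ _)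
        ((H1CAlg.isZero_Tor_of_flat (ModuleCat.of B (Fin k → B)) N j).eq_of_tgt _ _)

/-- Projective dimension equals `Tor`-dimension. -/
theorem projectiveDimension_eq_torDimension (M : Type u) [AddCommGroup M] [Module B M] [Module A M]
    [IsScalarTower A B M] [Module.FinitePresentation B M] [Module.Flat A M] :
    projectiveDimension (ModuleCat.of B M) =
      sInf {n : WithBot ℕ∞ | ∀ i : ℕ, n < i → ∀ N : ModuleCat.{u} B,
        IsZero (((Tor (ModuleCat.{u} B) i).obj (ModuleCat.of B M)).obj N)} := by
  set S := {n : WithBot ℕ∞ | ∀ i : ℕ, n < i → ∀ N : ModuleCat.{u} B,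
    IsZero (((Tor (ModuleCat.{u} B) i).obj (ModuleCat.of B M)).obj N)} with hS
  have hmem : sInf S ∈ S := csInf_mem ⟨⊤, by simp [hS]⟩
  refine eq_of_forall_ge_iff fun n => ?_
  have hiff : sInf S ≤ n ↔ n ∈ S :=
    ⟨fun h i hi => hmem i (h.trans_lt hi), fun h => sInf_le h⟩
  rw [hiff]
  induction n with
  | bot =>
    simp only [le_bot_iff, projectiveDimension_eq_bot_iff, ModuleCat.isZero_iff_subsingleton, hS,
      Set.mem_ofPred_eq]
    constructor
    · intro _ i _ N
      cases i with
      | zero =>
        refine ((IsZero.of_iso ?_ ((H3CAlg.Tor.zeroIso (ModuleCat.of B M)).app N))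
          |> ModuleCat.isZero_iff_subsingleton.1)
        exact (ModuleCat.isZero_iff_subsingleton
          (M := (((tensoringLeft (ModuleCat.{u} B)).obj (ModuleCat.of B M)).obj N))).2
          (inferInstanceAs (Subsingleton (M ⊗[B] N)))
      | succ j =>
        exact ModuleCat.isZero_iff_subsingleton.1 (H1CAlg.isZero_Tor_of_flat (ModuleCat.of B M) N j)
    · intro h
      have h0 := (ModuleCat.isZero_iff_subsingleton (M :=
        (((Tor (ModuleCat.{u} B) 0).obj (ModuleCat.of B M)).obj (ModuleCat.of B B)))).2
        (h 0 (WithBot.bot_lt_coe _) (ModuleCat.of B B))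
      have h1 : Subsingleton (M ⊗[B] B) := ModuleCat.isZero_iff_subsingleton.1
        (h0.of_iso ((H3CAlg.Tor.zeroIso (ModuleCat.of B M)).app (ModuleCat.of B B)).symm)
      exact (TensorProduct.rid B M).symm.toEquiv.subsingleton
  | coe n =>
    induction n with
    | top => simp [hS]
    | coe n =>
      show projectiveDimension _ ≤ (n : WithBot ℕ∞) ↔ (n : WithBot ℕ∞) ∈ S
      rw [projectiveDimension_le_iff, hasProjectiveDimensionLE_iff_tor A B n M]
      simp only [hS, Set.mem_ofPred_eq]
      exact forall_congr' fun i => by simp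

end Groth.Agent.H06EGA11
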