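import Groth.Agent.H06EGA11.Ker
import Mathlib.RingTheory.IsTensorProduct
import Mathlib.RingTheory.Localization.FractionRing
import Mathlib.RingTheory.Flat.Stability
import Mathlib.LinearAlgebra.Basis.VectorSpace

/-!
# Flatness at a point of a base change

The kernel criterion: flatness of `(M₀ ⊗ R')_q` over `R'` from the vanishing of finitely many
elements.
-/

set_option autoImplicit false

universe u

open TensorProduct LinearMap

namespace Groth.Agent.H06EGA11

attribute [local instance] Algebra.TensorProduct.rightAlgebra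

variable {R₀ B₀ M₀ : Type u} [CommRing R₀] [CommRing B₀] [Algebra R₀ B₀] [AddCommGroup M₀]
  [Module R₀ M₀] [Module B₀ M₀] [IsScalarTower R₀ B₀ M₀]

variable (R₀ B₀ M₀) in
/-- The base change of `M₀` to `B₀ ⊗ R'`. -/
abbrev BC (R' : Type u) [CommRing R'] [Algebra R₀ R'] : Type u := (B₀ ⊗[R₀] R') ⊗[B₀] M₀

variable (R' : Type u) [CommRing R'] [Algebra R₀ R']

variable (R₀ B₀ M₀) in
/-- The canonical map to the base change. -/
noncomputable def toBC : M₀ →ₗ[R₀] BC R₀ B₀ M₀ R' :=
  (TensorProduct.mk B₀ (B₀ ⊗[R₀] R') M₀ 1).restrictScalars R₀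

theorem toBC_apply (m : M₀) : toBC R₀ B₀ M₀ R' m = 1 ⊗ₜ m := rfl

theorem isBaseChange_toBC : IsBaseChange R' (toBC R₀ B₀ M₀ R') := by
  haveI : Algebra.IsPushout R₀ R' B₀ (B₀ ⊗[R₀] R') := Algebra.IsPushout.symm inferInstance
  refine IsBaseChange.of_equiv
    (Algebra.IsPushout.cancelBaseChange R₀ R' B₀ (B₀ ⊗[R₀] R') M₀).symm fun m => ?_
  rw [Algebra.IsPushout.cancelBaseChange_symm_tmul, map_one, toBC_apply]

variable (X : Type u) [AddCommGroup X] [Module R₀ X] [Module R' X] [IsScalarTower R₀ R' X]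

/-- `M₀ ⊗_{R₀} X ≅ (M₀ ⊗ R') ⊗_{R'} X`. -/
noncomputable def psi : M₀ ⊗[R₀] X ≃+ BC R₀ B₀ M₀ R' ⊗[R'] X :=
  ((TensorProduct.comm R₀ M₀ X).toAddEquiv.trans
    ((isBaseChange_toBC (R₀ := R₀) (B₀ := B₀) (M₀ := M₀) R').tensorEquiv X).symm.toAddEquiv).trans
    (TensorProduct.comm R' X (BC R₀ B₀ M₀ R')).toAddEquiv

theorem psi_tmul (m : M₀) (x : X) :
    psi R' X (m ⊗ₜ[R₀] x) = ((1 : B₀ ⊗[R₀] R') ⊗ₜ[B₀] m) ⊗ₜ[R'] x := by
  show TensorProduct.comm R' X (BC R₀ B₀ M₀ R')
    (((isBaseChange_toBC (R₀ := R₀) (B₀ := B₀) (M₀ := M₀) R').tensorEquiv X).symm (x ⊗ₜ m)) = _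
  simp [IsBaseChange.tensorEquiv, IsBaseChange.equiv_tmul, toBC_apply]

theorem psi_smul (b : B₀) (z : M₀ ⊗[R₀] X) :
    psi (B₀ := B₀) R' X (b • z) =
      (b ⊗ₜ[R₀] (1 : R') : B₀ ⊗[R₀] R') • psi (B₀ := B₀) R' X z := by
  induction z with
  | zero => simp
  | tmul m x =>
    rw [TensorProduct.smul_tmul', psi_tmul, psi_tmul, TensorProduct.smul_tmul',
      TensorProduct.smul_tmul', smul_eq_mul, mul_one]
    congr 1
    rw [TensorProduct.tmul_smul, TensorProduct.smul_tmul', Algebra.smul_def,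
      Algebra.TensorProduct.algebraMap_apply, Algebra.algebraMap_self, RingHom.id_apply, mul_one]
  | add x y hx hy => simp only [smul_add, map_add, hx, hy]

variable {X} {Y : Type u} [AddCommGroup Y] [Module R₀ Y] [Module R' Y] [IsScalarTower R₀ R' Y]

theorem psi_lTensor (g : X →ₗ[R'] Y) (z : M₀ ⊗[R₀] X) :
    psi (B₀ := B₀) R' Y ((g.restrictScalars R₀).lTensor M₀ z) =
      g.lTensor (BC R₀ B₀ M₀ R') (psi R' X z) := by
  induction z with
  | zero => simp
  | tmul m x => simp [psi_tmul]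
  | add x y hx hy => simp only [map_add, hx, hy]

theorem psi_lTensor_mulMap (p : Ideal R₀) (r : R') (z : M₀ ⊗[R₀] p) :
    psi (B₀ := B₀) R' ↥(p.map (algebraMap R₀ R')) ((mulMap p r).lTensor M₀ z) =
      ((1 : B₀) ⊗ₜ[R₀] r : B₀ ⊗[R₀] R') •
        psi R' ↥(p.map (algebraMap R₀ R')) ((mulMap p (1 : R')).lTensor M₀ z) := by
  induction z with
  | zero => simp
  | tmul m a =>
    rw [LinearMap.lTensor_tmul, LinearMap.lTensor_tmul, psi_tmul, psi_tmul,
      show mulMap p r a = r • mulMap p (1 : R') a from Subtype.ext (by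
        rw [mulMap_coe, Submodule.coe_smul, mulMap_coe, one_mul, smul_eq_mul]),
      TensorProduct.tmul_smul, ← algebraMap_smul (B₀ ⊗[R₀] R') r]
    rfl
  | add x y hx hy => simp only [map_add, hx, hy, smul_add]

/-- A module over a domain on which nonzero elements act invertibly is flat. -/
theorem flat_of_isUnit_smul {D W : Type u} [CommRing D] [IsDomain D] [AddCommGroup W] [Module D W]
    (hu : ∀ d : nonZeroDivisors D, IsUnit (algebraMap D (Module.End D W) d)) : Module.Flat D W := by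
  have : IsLocalizedModule (nonZeroDivisors D) (LinearMap.id : W →ₗ[D] W) :=
    { map_units := hu
      surj := fun w => ⟨(w, 1), by simp⟩
      exists_of_eq := fun h => ⟨1, by simpa using h⟩ }
  have : Module.Flat D (FractionRing D) :=
    IsLocalization.flat (FractionRing D) (nonZeroDivisors D)
  have : Module.Flat (FractionRing D) (LocalizedModule (nonZeroDivisors D) W) :=
    @Module.Flat.of_free _ _ _ _ _ (Module.Free.of_divisionRing (K := FractionRing D)
      (V := LocalizedModule (nonZeroDivisors D) W))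
  have : Module.Flat D (LocalizedModule (nonZeroDivisors D) W) :=
    Module.Flat.trans D (FractionRing D) _
  exact Module.Flat.of_linearEquiv
    (IsLocalizedModule.iso (nonZeroDivisors D) (LinearMap.id : W →ₗ[D] W)).symm

/-- `M / pM` is flat over `R/p` at a submonoid containing the complement of the prime `p`. -/
theorem flat_quotient_localizedModule (p : Ideal R₀) [p.IsPrime] (T : Submonoid B₀)
    (hT : ∀ a : R₀, a ∉ p → algebraMap R₀ B₀ a ∈ T) :
    Module.Flat (R₀ ⧸ p) ((R₀ ⧸ p) ⊗[R₀] LocalizedModule T M₀) := by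
  let D := R₀ ⧸ p
  let W := D ⊗[R₀] LocalizedModule T M₀
  have hu : ∀ d : nonZeroDivisors D, IsUnit (algebraMap D (Module.End D W) d) := by
    rintro ⟨d, hd⟩
    obtain ⟨a, rfl⟩ := Ideal.Quotient.mk_surjective d
    have ha : a ∉ p := fun h =>
      nonZeroDivisors.ne_zero hd (Ideal.Quotient.eq_zero_iff_mem.2 h)
    obtain ⟨φ, hφ⟩ := IsLocalizedModule.map_units (LocalizedModule.mkLinearMap T M₀)
      ⟨_, hT a ha⟩
    have hbij : Function.Bijective fun n : LocalizedModule T M₀ => a • n := by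
      have := (Module.End.isUnit_iff _).1 (IsLocalizedModule.map_units
        (LocalizedModule.mkLinearMap T M₀) ⟨_, hT a ha⟩)
      convert this using 1
      ext n
      rw [Module.algebraMap_end_apply, algebraMap_smul]
    let e : LocalizedModule T M₀ ≃ₗ[R₀] LocalizedModule T M₀ :=
      LinearEquiv.ofBijective (LinearMap.lsmul R₀ _ a) hbij
    rw [Module.End.isUnit_iff]
    convert (LinearEquiv.lTensor D e).bijective using 1
    ext w
    rw [Module.algebraMap_end_apply]
    induction w using TensorProduct.induction_on with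
    | zero => simp
    | tmul x n =>
      show Ideal.Quotient.mk p a • (x ⊗ₜ[R₀] n) = x ⊗ₜ (a • n)
      rw [TensorProduct.tmul_smul, ← Ideal.Quotient.algebraMap_eq, algebraMap_smul]
    | add u v hu hv => rw [smul_add, hu, hv, map_add]
  haveI : IsDomain D := Ideal.Quotient.isDomain p
  exact flat_of_isUnit_smul hu

/-- The kernel criterion for flatness of a base change at a point. -/
theorem flat_stage [IsNoetherianRing R'] [IsNoetherianRing (B₀ ⊗[R₀] R')] [Module.Finite B₀ M₀]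
    (q : Ideal (B₀ ⊗[R₀] R')) [q.IsPrime] (p : Ideal R₀)
    [Module.Flat (R₀ ⧸ p) ((R₀ ⧸ p) ⊗[R₀]
      LocalizedModule (q.comap (algebraMap B₀ (B₀ ⊗[R₀] R'))).primeCompl M₀)]
    (hpq : (p.map (algebraMap R₀ R')).map (algebraMap R' (B₀ ⊗[R₀] R')) ≤ q)
    (hker : ∀ k : M₀ ⊗[R₀] p, p.subtype.lTensor M₀ k = 0 →
      ∃ s ∈ q.primeCompl,
        s • psi (B₀ := B₀) R' ↥(p.map (algebraMap R₀ R')) ((mulMap p (1 : R')).lTensor M₀ k) = 0) :
    Module.Flat R' (LocalizedModule q.primeCompl (BC R₀ B₀ M₀ R')) := by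
  set I := p.map (algebraMap R₀ R') with hI
  let T := (q.comap (algebraMap B₀ (B₀ ⊗[R₀] R'))).primeCompl
  refine flat_localizedModule_atPrime q I hpq (fun x hx => ?_) fun Q _ _ hQ P x hx => ?_
  · obtain ⟨z, rfl⟩ := (psi (B₀ := B₀) R' ↥I).surjective x
    have hz : (I.subtype.restrictScalars R₀).lTensor M₀ z = 0 := by
      apply (psi (B₀ := B₀) (M₀ := M₀) R' R').injective
      rw [psi_lTensor, hx, map_zero]
    obtain ⟨t, ht, htz⟩ := exists_smul_mem_kerSpan p T z hz
    suffices ∀ w ∈ kerSpan B₀ M₀ p (R' := R'), ∃ s ∈ q.primeCompl, s • psi (B₀ := B₀) R' ↥I w = 0 by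
      obtain ⟨s, hs, hsw⟩ := this _ htz
      rw [psi_smul, smul_smul] at hsw
      exact ⟨_, mul_mem hs ht, hsw⟩
    intro w hw
    refine Submodule.iSup_induction _ (motive := fun w =>
      ∃ s ∈ q.primeCompl, s • psi (B₀ := B₀) R' ↥I w = 0) hw ?_ ⟨1, one_mem _, by simp⟩ ?_
    · rintro r _ ⟨k, hk, rfl⟩
      obtain ⟨s, hs, hsk⟩ := hker k hk
      refine ⟨s, hs, ?_⟩
      show s • psi (B₀ := B₀) R' ↥I ((mulMap p r).lTensor M₀ k) = 0
      rw [psi_lTensor_mulMap, smul_comm, hsk, smul_zero]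
    · rintro a b ⟨s, hs, hsa⟩ ⟨s', hs', hsb⟩
      refine ⟨s * s', mul_mem hs hs', ?_⟩
      rw [map_add, smul_add, mul_smul, mul_smul, hsb, smul_zero, add_zero, smul_comm, hsa, smul_zero]
  · letI : Module R₀ Q := Module.compHom Q (algebraMap R₀ R')
    haveI : IsScalarTower R₀ R' Q := IsScalarTower.of_algebraMap_smul fun _ _ => rfl
    obtain ⟨z, rfl⟩ := (psi (B₀ := B₀) R' ↥P).surjective x
    have hz : (P.restrictScalars R₀).subtype.lTensor M₀ z = 0 := by
      show (P.subtype.restrictScalars R₀).lTensor M₀ z = 0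
      apply (psi (B₀ := B₀) (M₀ := M₀) R' Q).injective
      rw [psi_lTensor, hx, map_zero]
    obtain ⟨t, ht, htz⟩ := exists_smul_eq_zero_of_injective T (P.restrictScalars R₀).subtype
      (H1CAlg.FlatDev.lTensor_injective_of_killed p
        (fun a ha y => hQ _ (Ideal.mem_map_of_mem _ ha) y) _) z hz
    exact ⟨t ⊗ₜ 1, ht, by rw [← psi_smul, show t • z = 0 from htz, map_zero]⟩

end Groth.Agent.H06EGA11
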